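import Groth.Agent.H13Cartier.Criteria
import Groth.Agent.H12AlgSp.AffineMor
import Groth.Prelude.Def_W4stk3spdivLocPr
import Groth.Prelude.Def_CInt

/-!
# Complements of effective Cartier divisors on algebraic spaces
-/

universe u

open CategoryTheory CategoryTheory.Limits AlgebraicGeometry Opposite TopologicalSpace
open AlgSp Groth.Agent.H12AlgSp Groth.Agent.H13AlgSp

namespace Groth.Agent.H13Cartier

/-- The complement of the support of a locally principal ideal is affine over the scheme. -/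
theorem isAffineHom_of_range_eq_compl {W V : Scheme.{u}} (w : W ⟶ V) [IsOpenImmersion w]
    (I : V.IdealSheafData)
    (hp : ∀ x : V, ∃ U : V.affineOpens, x ∈ U.1 ∧ ∃ f : Γ(V, U.1), I.ideal U = Ideal.span {f})
    (h : Set.range w = (I.support : Set V)ᶜ) : IsAffineHom w := by
  choose U hxU f hf using hp
  refine IsZariskiLocalAtTarget.of_iSup_eq_top (fun x => (U x).1)
    (eq_top_iff.mpr fun x _ => Opens.mem_iSup.mpr ⟨x, hxU x⟩) fun x => ?_
  have : IsAffine (U x).1.toScheme := (U x).2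
  rw [HasAffineProperty.iff_of_isAffine (P := @IsAffineHom)]
  change IsAffineOpen (w ⁻¹ᵁ (U x).1)
  rw [← Scheme.Hom.isAffineOpen_iff_of_isOpenImmersion w]
  have e : w ''ᵁ (w ⁻¹ᵁ (U x).1) = V.basicOpen (f x) := by
    apply Opens.ext
    have h1 : (V.zeroLocus (U := (U x).1) ((I.ideal (U x) : Ideal _) : Set _)) = ((V.basicOpen (f x) : Set V))ᶜ := by
      rw [hf x, Scheme.zeroLocus_span, Scheme.zeroLocus_singleton]
    have h2 := I.coe_support_inter (U x)
    rw [h1] at h2
    rw [Scheme.Hom.image_preimage_eq_opensRange_inf, Opens.coe_inf, Scheme.Hom.coe_opensRange, h]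
    ext y
    have h3 := Set.ext_iff.mp h2 y
    simp only [Set.mem_inter_iff, Set.mem_compl_iff, SetLike.mem_coe] at h3 ⊢
    exact ⟨fun ⟨a, b⟩ => by_contra fun c => a (h3.mpr ⟨c, b⟩).1,
      fun c => ⟨fun a => (h3.mp ⟨a, V.basicOpen_le _ c⟩).1 c, V.basicOpen_le _ c⟩⟩
  rw [e]
  exact (U x).2.basicOpen _

/-- The complement of an effective Cartier divisor is schematically dense. -/
theorem isSchematicallyDense_compl {V : Scheme.{u}} {I : V.IdealSheafData}
    (hI : BlowUp.IsEffCartierIdeal I) :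
    CInt.IsSchematicallyDense (⟨(I.support : Set V)ᶜ, I.support.isClosed.isOpen_compl⟩ : V.Opens) := by
  intro V' s t hst
  refine TopCat.Sheaf.eq_of_locally_eq' V.sheaf
    (fun p : {U : V.affineOpens // U.1 ≤ V' ∧ ∃ f : Γ(V, U.1), f ∈ nonZeroDivisors Γ(V, U.1) ∧
      I.ideal U = Ideal.span {f}} => p.1.1) V' (fun p => homOfLE p.2.1) (fun x hx => ?_) s t ?_
  · obtain ⟨U, hxU, hle, f, hf, hfU⟩ := H29Blow.exists_gen hI hx
    exact Opens.mem_iSup.mpr ⟨⟨U, hle, f, hf, hfU⟩, hxU⟩
  · rintro ⟨U, hle, f, hf, hfU⟩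
    rw [← sub_eq_zero]
    refine H29Blow.eq_zero_of_res_basicOpen_eq_zero hf ?_
    refine (map_sub _ _ _).trans (sub_eq_zero.mpr ?_)
    have hD : V.basicOpen f ≤ V' ⊓ ⟨(I.support : Set V)ᶜ, I.support.isClosed.isOpen_compl⟩ :=
      fun y hy => ⟨hle (V.basicOpen_le f hy),
        H29Blow.basicOpen_disjoint_support (hfU.symm ▸ Ideal.mem_span_singleton_self f) hy⟩
    have key : ∀ z : Γ(V, V'),
        (V.presheaf.map (homOfLE (V.basicOpen_le f)).op).hom ((V.presheaf.map (homOfLE hle).op).hom z) =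
          (V.presheaf.map (homOfLE hD).op).hom ((V.presheaf.map (homOfLE inf_le_left).op).hom z) := fun z => by
      rw [← CommRingCat.comp_apply, ← CommRingCat.comp_apply, ← Functor.map_comp, ← Functor.map_comp]
      rfl
    exact (key s).trans ((congrArg (V.presheaf.map (homOfLE hD).op).hom hst).trans (key t).symm)

variable {S : Scheme.{u}}

theorem isAffineMor_compl {X Z U : Sp S} (hX : IsAlgSpace X) (hU : IsAlgSpace U) {i : Z ⟶ X}
    {V : Over S} {φ : (yon S).obj V ⟶ X} (hφ : RepWith @Etale φ) (hφs : RepWith @Surjective φ)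
    {I : V.left.IdealSheafData} (hc : CutsOut i φ I)
    (hp : ∀ x : V.left, ∃ U : V.left.affineOpens, x ∈ U.1 ∧ ∃ f : Γ(V.left, U.1), I.ideal U = Ideal.span {f})
    {j : U ⟶ X} (hj : RepWith @IsOpenImmersion j)
    (hr : Set.range (Points.map j) = (Set.range (Points.map i))ᶜ) : IsAffineMor j := by
  obtain ⟨W, w, fst, sq⟩ := hj.rep φ
  have : IsOpenImmersion w.left := hj.2 φ _ w sq
  obtain ⟨l, sqI⟩ := hc
  have hrange : Set.range w.left = (I.support : Set V.left)ᶜ := by
    rw [← preimage_ofPt_range sq, hr, Set.preimage_compl, preimage_ofPt_range sqI]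
    exact congrArg compl I.range_subschemeι
  refine isAffineMor_iff.2 (repWith_of_etale_cover le_rfl hU hX hφ hφs sq ?_)
  exact (repWith_yon_map_iff _ _).2 (isAffineHom_of_range_eq_compl w.left I hp hrange)

theorem isSchDense_compl {X D U : Sp S} {i : D ⟶ X} (hD : IsEffCartierSub i)
    {j : U ⟶ X} (hj : RepWith @IsOpenImmersion j)
    (hr : Set.range (Points.map j) = (Set.range (Points.map i))ᶜ) : IsSchDense j := by
  obtain ⟨-, V, φ, I, l, hφ, hφs, sqI, hI⟩ := hD
  obtain ⟨W, w, fst, sq⟩ := hj.rep φ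
  have : IsOpenImmersion w.left := hj.2 φ _ w sq
  let W₀ : V.left.Opens := ⟨(I.support : Set V.left)ᶜ, I.support.isClosed.isOpen_compl⟩
  have hrange : Set.range w.left = Set.range W₀.ι := by
    rw [Scheme.Opens.range_ι, ← preimage_ofPt_range sq, hr, Set.preimage_compl, preimage_ofPt_range sqI]
    exact congrArg compl I.range_subschemeι
  let e : W ≅ Over.mk (W₀.ι ≫ V.hom) :=
    Over.isoMk (IsOpenImmersion.isoOfRangeEq w.left W₀.ι hrange) (by
      change _ ≫ W₀.ι ≫ V.hom = _
      rw [IsOpenImmersion.isoOfRangeEq_hom_fac_assoc]; exact Over.w w)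
  have he : e.hom ≫ (Over.homMk W₀.ι rfl : Over.mk (W₀.ι ≫ V.hom) ⟶ V) = w :=
    Over.OverMorphism.ext (IsOpenImmersion.isoOfRangeEq_hom_fac w.left W₀.ι hrange)
  refine ⟨hj, V, φ, W₀, (yon S).map e.inv ≫ fst, hφ, hφs,
    sq.of_iso ((yon S).mapIso e) (Iso.refl _) (Iso.refl _) (Iso.refl _) ?_ ?_ (by simp) (by simp),
    isSchematicallyDense_compl hI⟩
  · simp
  · simp [← Functor.map_comp, he]

end Groth.Agent.H13Cartier
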