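import Groth.Agent.H13Cartier.Criteria
import Groth.Agent.H29Blow.Relative

/-!
# Base change of effective Cartier divisors flat over the base
-/

universe u

open CategoryTheory CategoryTheory.Limits AlgebraicGeometry Opposite
open AlgSp Groth.Agent.H12AlgSp Groth.Agent.H13AlgSp
open scoped TensorProduct

namespace Groth.Agent.H13Cartier

theorem mem_nonZeroDivisors_tensor {A B A' : Type u} [CommRing A] [CommRing B] [CommRing A'] [Algebra A B]
    [Algebra A A'] {f : B} (hf : f ∈ nonZeroDivisors B) (hfl : Module.Flat A (B ⧸ Ideal.span {f})) :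
    (f ⊗ₜ[A] (1 : A') : B ⊗[A] A') ∈ nonZeroDivisors (B ⊗[A] A') := by
  let m : B →ₗ[A] B := LinearMap.mulLeft A f
  let q : B →ₗ[A] B ⧸ Ideal.span {f} := ((Ideal.span {f}).mkQ).restrictScalars A
  have hm : Function.Injective m := fun x y hxy => by
    have h := (mem_nonZeroDivisors_iff.mp hf).1 (x - y) (by
      rw [mul_sub, sub_eq_zero]; exact hxy)
    exact sub_eq_zero.mp h
  have hex : Function.Exact m q := fun x => by
    simp only [q, m, LinearMap.coe_restrictScalars, Submodule.mkQ_apply, Submodule.Quotient.mk_eq_zero,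
      Ideal.mem_span_singleton', Set.mem_range, LinearMap.mulLeft_apply, mul_comm f]
  have key : Function.Injective (LinearMap.rTensor A' m) := by
    have h := LinearMap.lTensor_injective_of_exact_of_flat q (Submodule.Quotient.mk_surjective _) m hm hex A'
    intro x y hxy
    have h2 : ∀ z : B ⊗[A] A', TensorProduct.comm A B A' (LinearMap.rTensor A' m z) =
        LinearMap.lTensor A' m (TensorProduct.comm A B A' z) := fun z => by
      induction z using TensorProduct.induction_on with
      | zero => simp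
      | tmul a b => simp
      | add a b ha hb => simp [ha, hb]
    exact (TensorProduct.comm A B A').injective (h (by rw [← h2, ← h2, hxy]))
  refine mem_nonZeroDivisors_iff_right.mpr fun z hz => key ?_
  rw [map_zero, ← hz]
  clear hz
  induction z using TensorProduct.induction_on with
  | zero => simp
  | tmul a b => simp [m, mul_comm f]
  | add a b ha hb => rw [map_add, ha, hb, add_mul]

theorem mem_nonZeroDivisors_of_isPushout {A B A' C : CommRingCat.{u}} {a : A ⟶ B} {b : A ⟶ A'}
    {c : B ⟶ C} {d : A' ⟶ C} (h : IsPushout a b c d) {f : B} (hf : f ∈ nonZeroDivisors B)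
    (hfl : ((Ideal.Quotient.mk (Ideal.span {f})).comp a.hom).Flat) :
    c.hom f ∈ nonZeroDivisors C := by
  algebraize [a.hom, b.hom]
  have h0 := CommRingCat.isPushout_tensorProduct A B A'
  let e := (h0.isoIsPushout _ _ h).commRingCatIsoToRingEquiv
  have he : e (f ⊗ₜ[A] (1 : A')) = c.hom f :=
    ConcreteCategory.congr_hom (h0.inl_isoIsPushout_hom _ _ h) f
  rw [← he, MulEquivClass.map_nonZeroDivisors e |>.symm]
  exact ⟨_, mem_nonZeroDivisors_tensor hf hfl, rfl⟩

/-- The inverse image of an effective Cartier divisor flat over the base under base change. -/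
theorem isEffCartierIdeal_comap_of_relative {X Y X' Y' : Scheme.{u}} {f : X ⟶ Y} {g : Y' ⟶ Y}
    {g' : X' ⟶ X} {f' : X' ⟶ Y'} (H : IsPullback g' f' f g) {I : X.IdealSheafData}
    (hI : BlowUp.IsEffCartierIdeal I) [Flat (I.subschemeι ≫ f)] :
    BlowUp.IsEffCartierIdeal (I.comap g') := by
  intro x'
  obtain ⟨U, hU, hyU, -⟩ := exists_isAffineOpen_mem_and_subset (TopologicalSpace.Opens.mem_top (f (g' x')))
  obtain ⟨V, hxV, hVU, a, ha, haV⟩ := H29Blow.exists_gen hI (W := f ⁻¹ᵁ U) (x := g' x') hyU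
  have hy' : f' x' ∈ g ⁻¹ᵁ U := by
    change g (f' x') ∈ U
    rw [← Scheme.Hom.comp_apply, ← H.w, Scheme.Hom.comp_apply]
    exact hyU
  obtain ⟨U', hU', hyU', hUU'⟩ := exists_isAffineOpen_mem_and_subset (U := g ⁻¹ᵁ U) (x := f' x') hy'
  let UY : X'.Opens := g' ⁻¹ᵁ V.1 ⊓ f' ⁻¹ᵁ U'
  have hiso := isIso_pushoutSection_of_isAffineOpen H (UY := UY) hUU' hVU rfl hU hU' V.2
  have hpo := (isIso_pushoutSection_iff H (UY := UY) hUU' hVU rfl).mp hiso
  have hUY : IsAffineOpen UY := by
    have : IsAffine _ := hU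
    have : IsAffine _ := hU'
    have : IsAffine _ := V.2
    exact .of_isIso (Scheme.Hom.isPullback_resLE H hUU' hVU (UY := UY) rfl).isoPullback.hom
  refine ⟨⟨UY, hUY⟩, ⟨hxV, hyU'⟩, (g'.appLE V.1 UY inf_le_left).hom a, ?_, ?_⟩
  swap
  · rw [H29Blow.ideal_comap I g' V ⟨UY, hUY⟩ inf_le_left, haV, Ideal.map_span, Set.image_singleton]
  refine mem_nonZeroDivisors_of_isPushout hpo ha ?_
  rw [← haV]
  exact H29Blow.flat_appLE_quot f I ⟨U, hU⟩ V hVU

variable {S : Scheme.{u}}

theorem isEffCartierSub_baseChange_of_flat {X Y D Y' X' D' : Sp S} (hX : IsAlgSpace X) (hY : IsAlgSpace Y)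
    (hY' : IsAlgSpace Y') {f : X ⟶ Y} {i : D ⟶ X} (hD : IsEffCartierSub i) (hflat : LocP @Flat (i ≫ f))
    {g : Y' ⟶ Y} {g' : X' ⟶ X} {f' : X' ⟶ Y'} (hX' : IsPullback g' f' f g)
    {k : D' ⟶ D} {i' : D' ⟶ X'} (hD' : IsPullback k i' i g') : IsEffCartierSub i' := by
  obtain ⟨V, β, hβ, hβs⟩ := hY.atlas
  have sq₀ := IsPullback.of_hasPullback f β
  obtain ⟨T, d, hde, hds⟩ := (isAlgSpace_of_isPullback hY.diag hX (IsAlgSpace.yon_obj V) sq₀).atlas
  obtain ⟨h, hh⟩ := (yon S).map_surjective (d ≫ pullback.snd f β)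
  let t := d ≫ pullback.fst f β
  have hte : RepWith @Etale t := repWith_comp hde (repWith_of_isPullback sq₀.flip hβ)
  have e : t ≫ f = (yon S).map h ≫ β := by rw [hh, Category.assoc, Category.assoc, sq₀.w]
  obtain ⟨V', β', m, hβ', hβ's, em⟩ := exists_chart_over hY' hY g hβ hβs
  obtain ⟨I, hI⟩ := exists_cutsOut hD.1 t
  have hc := isEffCartierIdeal_of_cutsOut hD hte hI
  have : Flat (I.subschemeι ≫ h.left) := by
    obtain ⟨fst, sq⟩ := id hI
    exact hflat fst β (subIncl T I ≫ h) (repWith_of_isPullback sq.flip hte) hβ (by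
      rw [reassoc_of% sq.w, e, Functor.map_comp, Category.assoc])
  let Q := pullback h m
  let p₁ : Q ⟶ T := pullback.fst h m
  let p₂ : Q ⟶ V' := pullback.snd h m
  have sqQ : IsPullback ((yon S).map p₁) ((yon S).map p₂) ((yon S).map h) ((yon S).map m) :=
    (IsPullback.of_hasPullback h m).map (yon S)
  have sq₁ := IsPullback.of_hasPullback f' β'
  let ψ : pullback f' β' ⟶ pullback f β :=
    sq₀.lift (pullback.fst f' β' ≫ g') (pullback.snd f' β' ≫ (yon S).map m) (by
      rw [Category.assoc, hX'.w, reassoc_of% sq₁.w, em, Category.assoc])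
  have sqψ : IsPullback ψ (pullback.snd f' β') (pullback.snd f β) ((yon S).map m) := by
    refine IsPullback.of_right ?_ (sq₀.lift_snd _ _ _) sq₀
    rw [sq₀.lift_fst, ← em]
    exact sq₁.paste_horiz hX'
  let κ : (yon S).obj Q ⟶ pullback f' β' :=
    sqψ.lift ((yon S).map p₁ ≫ d) ((yon S).map p₂) (by rw [Category.assoc, ← hh]; exact sqQ.w)
  have sqκ : IsPullback ((yon S).map p₁) κ d ψ := by
    refine IsPullback.of_bot ?_ (sqψ.lift_fst _ _ _).symm sqψ
    rw [← hh, sqψ.lift_snd]
    exact sqQ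
  let c := κ ≫ pullback.fst f' β'
  have hs : IsPullback p₁.left p₂.left h.left m.left :=
    (IsPullback.of_hasPullback h m).map (Over.forget S)
  refine isEffCartierSub_of_cutsOut (repWith_of_isPullback hD' hD.1)
    (repWith_comp (repWith_of_isPullback sqκ hde) (repWith_of_isPullback sq₁.flip hβ'))
    (repWith_comp (repWith_of_isPullback sqκ hds) (repWith_of_isPullback sq₁.flip hβ's))
    (cutsOut_of_isPullback hD' (t := c) ?_) (isEffCartierIdeal_comap_of_relative hs hc)
  have e2 : c ≫ g' = (yon S).map p₁ ≫ t := by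
    rw [Category.assoc, show pullback.fst f' β' ≫ g' = ψ ≫ pullback.fst f β from (sq₀.lift_fst _ _ _).symm,
      ← Category.assoc, sqψ.lift_fst, Category.assoc]
  rw [e2]
  exact hI.comap p₁

end Groth.Agent.H13Cartier
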