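import Groth.Agent.H13Cartier.Scheme
import Groth.Agent.H13AlgSp.EtaleLocally
import Groth.Prelude.Def_AlgSpSub

/-!
# Effective Cartier divisors on algebraic spaces: independence of the chart
-/

universe u

open CategoryTheory CategoryTheory.Limits AlgebraicGeometry Opposite
open AlgSp Groth.Agent.H12AlgSp Groth.Agent.H13AlgSp

namespace Groth.Agent.H13Cartier

variable {S : Scheme.{u}} {F D : Sp S}

/-- The closed subscheme of an ideal sheaf, over `S`. -/
noncomputable abbrev subOver (U : Over S) (I : U.left.IdealSheafData) : Over S :=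
  Over.mk (I.subschemeι ≫ U.hom)

/-- Its inclusion. -/
noncomputable abbrev subIncl (U : Over S) (I : U.left.IdealSheafData) : subOver U I ⟶ U :=
  Over.homMk I.subschemeι rfl

/-- `I` is the ideal of the inverse image of `i` in the chart `ψ`. -/
def CutsOut (i : D ⟶ F) {U : Over S} (ψ : (yon S).obj U ⟶ F) (I : U.left.IdealSheafData) : Prop :=
  ∃ fst : (yon S).obj (subOver U I) ⟶ D, IsPullback fst ((yon S).map (subIncl U I)) i ψ

theorem exists_cutsOut {i : D ⟶ F} (hi : RepWith @IsClosedImmersion i) {U : Over S}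
    (ψ : (yon S).obj U ⟶ F) : ∃ I, CutsOut i ψ I := by
  obtain ⟨W, snd, fst, sq⟩ := hi.rep ψ
  have : IsClosedImmersion snd.left := hi.2 ψ _ snd sq
  refine ⟨snd.left.ker, ?_⟩
  let e : W ≅ subOver U snd.left.ker :=
    Over.isoMk (asIso snd.left.toImage)
      (by simp only [asIso_hom, Over.mk_hom]; rw [← Category.assoc, Scheme.Hom.toImage_imageι]; exact Over.w snd)
  have he : e.hom ≫ subIncl U snd.left.ker = snd := Over.OverMorphism.ext snd.left.toImage_imageι
  refine ⟨(yon S).map e.inv ≫ fst, sq.of_iso ((yon S).mapIso e) (Iso.refl _) (Iso.refl _) (Iso.refl _)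
    ?_ ?_ (by simp) (by simp)⟩
  · simp
  · simp [← Functor.map_comp, he]

theorem CutsOut.unique {i : D ⟶ F} {U : Over S} {ψ : (yon S).obj U ⟶ F} {I J : U.left.IdealSheafData}
    (hI : CutsOut i ψ I) (hJ : CutsOut i ψ J) : I = J := by
  obtain ⟨fI, sqI⟩ := hI
  obtain ⟨fJ, sqJ⟩ := hJ
  obtain ⟨e, he⟩ := (yon S).map_surjective (sqI.isoIsPullback _ _ sqJ).hom
  have h1 : e ≫ subIncl U J = subIncl U I := (yon S).map_injective (by
    rw [Functor.map_comp, he, IsPullback.isoIsPullback_hom_snd])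
  have : IsIso ((yon S).map e) := by rw [he]; infer_instance
  have : IsIso e := isIso_of_reflects_iso e (yon S)
  have : IsIso e.left := inferInstanceAs (IsIso ((Over.forget S).map e))
  rw [← I.ker_subschemeι, ← J.ker_subschemeι, ← Scheme.Hom.ker_comp_of_isIso e.left J.subschemeι]
  exact congrArg Scheme.Hom.ker (congrArg (fun f => Over.Hom.left f) h1).symm

theorem CutsOut.comap {i : D ⟶ F} {U : Over S} {ψ : (yon S).obj U ⟶ F} {I : U.left.IdealSheafData}
    (hI : CutsOut i ψ I) {W : Over S} (w : W ⟶ U) :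
    CutsOut i ((yon S).map w ≫ ψ) (I.comap w.left) := by
  obtain ⟨fst, sq⟩ := hI
  let k : subOver W (I.comap w.left) ⟶ subOver U I :=
    Over.homMk ((I.comapIso w.left).hom ≫ pullback.snd _ _) (by
      simp only [Over.mk_hom, Category.assoc]
      rw [← pullback.condition_assoc, Scheme.IdealSheafData.comapIso_hom_fst_assoc, Over.w w])
  have hs : IsPullback k.left (subIncl W (I.comap w.left)).left (subIncl U I).left w.left :=
    (IsPullback.of_hasPullback w.left I.subschemeι).flip.of_iso (I.comapIso w.left).symm (Iso.refl _)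
      (Iso.refl _) (Iso.refl _) (by simp [k, -Scheme.IdealSheafData.comapIso_hom_snd]) (by simp) (by simp) (by simp)
  have hO : IsPullback k (subIncl W (I.comap w.left)) (subIncl U I) w :=
    IsPullback.of_map (Over.forget S) (Over.OverMorphism.ext hs.w) hs
  exact ⟨(yon S).map k ≫ fst, (hO.map (yon S)).paste_horiz sq⟩

/-- Pulling a closed subspace back: inverse images in a chart of the source. -/
theorem cutsOut_of_isPullback {X Y : Sp S} {i : D ⟶ Y} {f : X ⟶ Y} {P : Sp S} {fst : P ⟶ D} {snd : P ⟶ X}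
    (hP : IsPullback fst snd i f) {T : Over S} {t : (yon S).obj T ⟶ X} {I : T.left.IdealSheafData}
    (hI : CutsOut i (t ≫ f) I) : CutsOut snd t I := by
  obtain ⟨l, sq⟩ := hI
  refine ⟨hP.lift l ((yon S).map (subIncl T I) ≫ t) (by rw [Category.assoc]; exact sq.w), ?_⟩
  refine IsPullback.of_right ?_ (hP.lift_snd _ _ _) hP
  rw [hP.lift_fst]
  exact sq

/-- The inverse images in two charts agree on their fibre product. -/
theorem CutsOut.comap_eq {i : D ⟶ F} {U V W : Over S} {ψ : (yon S).obj U ⟶ F} {φ : (yon S).obj V ⟶ F}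
    {I : U.left.IdealSheafData} {J : V.left.IdealSheafData} (hI : CutsOut i ψ I) (hJ : CutsOut i φ J)
    {a : W ⟶ U} {b : W ⟶ V} (e : (yon S).map a ≫ ψ = (yon S).map b ≫ φ) :
    I.comap a.left = J.comap b.left :=
  (hI.comap a).unique (e ▸ hJ.comap b)

/-- Two etale charts meeting at a point have a common refinement. -/
theorem exists_common_etale {U V : Over S} {ψ : (yon S).obj U ⟶ F} {φ : (yon S).obj V ⟶ F}
    (hψ : RepWith @Etale ψ) (hφ : RepWith @Etale φ) (u : U.left) (v : V.left)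
    (h : Points.ofPt ψ u = Points.ofPt φ v) :
    ∃ (W : Over S) (a : W ⟶ U) (b : W ⟶ V) (w : W.left), Etale a.left ∧ Etale b.left ∧
      a.left w = u ∧ b.left w = v ∧ (yon S).map a ≫ ψ = (yon S).map b ≫ φ := by
  obtain ⟨W, a, b', sq⟩ := hφ.1 ψ
  obtain ⟨b, rfl⟩ := (yon S).map_surjective b'
  have ha : Etale a.left := hφ.2 ψ _ a sq
  have hb : Etale b.left := hψ.2 φ _ b sq.flip
  obtain ⟨p, hp₁, hp₂⟩ := exists_point_of_isPullback sq (Points.ofScheme V v) (Points.ofScheme U u)
    (by rw [← Points.ofPt_eq_map_ofScheme, ← Points.ofPt_eq_map_ofScheme, h])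
  obtain ⟨w, rfl⟩ := (Points.schemeEquiv W).surjective p
  exact ⟨W, a, b, w, ha, hb,
    (Points.schemeEquiv U).injective ((Points.map_yon_map_apply a w).symm.trans hp₂),
    (Points.schemeEquiv V).injective ((Points.map_yon_map_apply b w).symm.trans hp₁), sq.w.symm⟩

/-- Being generated by one nonzerodivisor near a point does not depend on the etale chart. -/
theorem CutsOut.genNear {i : D ⟶ F} {U V : Over S} {ψ : (yon S).obj U ⟶ F} {φ : (yon S).obj V ⟶ F}
    {I : U.left.IdealSheafData} {J : V.left.IdealSheafData} (hI : CutsOut i ψ I) (hJ : CutsOut i φ J)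
    (hψ : RepWith @Etale ψ) (hφ : RepWith @Etale φ) (u : U.left) (v : V.left)
    (h : Points.ofPt ψ u = Points.ofPt φ v) (hg : GenNear J v) : GenNear I u := by
  obtain ⟨W, a, b, w, ha, hb, rfl, rfl, e⟩ := exists_common_etale hψ hφ u v h
  refine genNear_of_flat a.left I w ?_
  rw [hI.comap_eq hJ e]
  obtain ⟨V₁, hxV, hle, f, hf, hfV⟩ := hg.exists_le (W := ⊤) trivial
  obtain ⟨W₁, hW₁, hwW, hWV⟩ := exists_isAffineOpen_mem_and_subset (U := b.left ⁻¹ᵁ V₁.1) (x := w) hxV
  exact ⟨⟨W₁, hW₁⟩, hwW, _, H29Blow.mem_nonZeroDivisors_map_of_flat (H29Blow.flat_appLE' b.left V₁ ⟨W₁, hW₁⟩ hWV) hf,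
    by rw [H29Blow.ideal_comap J b.left V₁ ⟨W₁, hW₁⟩ hWV, hfV, Ideal.map_span, Set.image_singleton]⟩

/-- An effective Cartier divisor is one in every etale chart. -/
theorem isEffCartierIdeal_of_cutsOut {i : D ⟶ F} (hD : IsEffCartierSub i) {U : Over S}
    {ψ : (yon S).obj U ⟶ F} (hψ : RepWith @Etale ψ) {I : U.left.IdealSheafData} (hI : CutsOut i ψ I) :
    BlowUp.IsEffCartierIdeal I := by
  obtain ⟨-, V, φ, J, fst, hφ, hφs, sq, hJ⟩ := hD
  intro u
  obtain ⟨v, hv⟩ := surjective_ofPt_of_repWith le_rfl hφs (Points.ofPt ψ u)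
  exact hI.genNear ⟨fst, sq⟩ hψ hφ u v hv.symm (hJ v)

theorem isEffCartierSub_of_cutsOut {i : D ⟶ F} (hi : RepWith @IsClosedImmersion i) {U : Over S}
    {ψ : (yon S).obj U ⟶ F} (hψ : RepWith @Etale ψ) (hψs : RepWith @Surjective ψ)
    {I : U.left.IdealSheafData} (hI : CutsOut i ψ I) (hc : BlowUp.IsEffCartierIdeal I) :
    IsEffCartierSub i :=
  ⟨hi, U, ψ, I, hI.choose, hψ, hψs, hI.choose_spec, hc⟩

end Groth.Agent.H13Cartier
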