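import Groth.Agent.H13Cartier.Criteria
import Groth.Prelude.Def_AlgSpModX

/-!
# Sums of effective Cartier divisors on algebraic spaces
-/

universe u

open CategoryTheory CategoryTheory.Limits AlgebraicGeometry Opposite
open AlgSp Groth.Agent.H12AlgSp Groth.Agent.H13AlgSp

namespace Groth.Agent.H13Cartier

variable {S : Scheme.{u}} {X : Sp S}

/-- The ideal of a closed subspace on an affine object of the small etale site. -/
theorem exists_cutsOut_ideal {Z : Sp S} {i : Z ⟶ X} {I : IdealEt X} (h : IsCutOutBy I i) (E : EtOver X)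
    (hE : IsAffine E.obj.left.left) :
    ∃ K : E.obj.left.left.IdealSheafData, CutsOut i E.obj.hom K ∧
      K.ideal ⟨⊤, isAffineOpen_top _⟩ = I.ideal E hE := by
  obtain ⟨hi, hI⟩ := h
  subst hI
  obtain ⟨K, hK⟩ := exists_cutsOut hi E.obj.hom
  obtain ⟨fst, sq⟩ := id hK
  obtain ⟨e, he⟩ := (yon S).map_surjective
    ((EtOver.isPullback_bcObj hi.1 E).isoIsPullback _ _ sq).hom
  have h1 : e ≫ subIncl E.obj.left K = EtOver.bcπ hi.1 E := (yon S).map_injective (by
    rw [Functor.map_comp, he, IsPullback.isoIsPullback_hom_snd])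
  have : IsIso ((yon S).map e) := by rw [he]; infer_instance
  have : IsIso e := isIso_of_reflects_iso e (yon S)
  have : IsIso e.left := inferInstanceAs (IsIso ((Over.forget S).map e))
  have h2 : e.left ≫ K.subschemeι = (EtOver.bcπ hi.1 E).left := congrArg (fun f => Over.Hom.left f) h1
  refine ⟨K, hK, ?_⟩
  have : QuasiCompact (EtOver.bcπ hi.1 E).left := by rw [← h2]; infer_instance
  change _ = RingHom.ker (EtOver.bcπ hi.1 E).left.appTop.hom
  refine Eq.trans ?_ (Scheme.Hom.ker_apply (EtOver.bcπ hi.1 E).left ⟨⊤, isAffineOpen_top _⟩)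
  rw [← h2, Scheme.Hom.ker_comp_of_isIso, K.ker_subschemeι]

/-- The inverse image of a product is the product of the inverse images, on affine charts. -/
theorem cutsOut_mul_eq {Z Y D : Sp S} {iZ : Z ⟶ X} {iY : Y ⟶ X} {iD : D ⟶ X} {I J : IdealEt X}
    (hZ : IsCutOutBy I iZ) (hY : IsCutOutBy J iY) (hD : IsCutOutBy (I * J) iD) {U : Over S}
    [IsAffine U.left] {ψ : (yon S).obj U ⟶ X} (hψ : RepWith @Etale ψ) {KZ KY KD : U.left.IdealSheafData}
    (cZ : CutsOut iZ ψ KZ) (cY : CutsOut iY ψ KY) (cD : CutsOut iD ψ KD) : KD = KZ * KY := by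
  let E : EtOver X := EtOver.mk ψ hψ
  have hE : IsAffine E.obj.left.left := ‹IsAffine U.left›
  obtain ⟨K₁, c₁, e₁⟩ := exists_cutsOut_ideal hZ E hE
  obtain ⟨K₂, c₂, e₂⟩ := exists_cutsOut_ideal hY E hE
  obtain ⟨K₃, c₃, e₃⟩ := exists_cutsOut_ideal hD E hE
  obtain rfl := cZ.unique c₁
  obtain rfl := cY.unique c₂
  obtain rfl := cD.unique c₃
  refine Scheme.IdealSheafData.ext_of_isAffine ?_
  rw [Scheme.IdealSheafData.ideal_mul, Pi.mul_apply]
  exact e₃.trans (congrArg₂ (· * ·) e₁ e₂).symm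

/-- Checking the effective Cartier property on affine charts. -/
theorem isEffCartierSub_of_affine {D : Sp S} (hX : IsAlgSpace X) {i : D ⟶ X}
    (hi : RepWith @IsClosedImmersion i)
    (h : ∀ (U : Over S) (ψ : (yon S).obj U ⟶ X), IsAffine U.left → RepWith @Etale ψ →
      ∀ K, CutsOut i ψ K → BlowUp.IsEffCartierIdeal K) : IsEffCartierSub i := by
  obtain ⟨U, ψ, hψ, hψs⟩ := hX.atlas
  obtain ⟨I, hI⟩ := exists_cutsOut hi ψ
  refine isEffCartierSub_of_cutsOut hi hψ hψs hI fun u => ?_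
  obtain ⟨V, hV, huV, -⟩ := exists_isAffineOpen_mem_and_subset (U := (⊤ : U.left.Opens)) (x := u) trivial
  have hU' : IsAffine (openOver U V).left := hV
  have he : RepWith @Etale ((yon S).map (openIncl U V) ≫ ψ) :=
    repWith_comp ((repWith_yon_map_iff _ _).2 (inferInstanceAs (Etale V.ι))) hψ
  exact hI.genNear (hI.comap (openIncl U V)) hψ he u ⟨u, huV⟩ (by rw [ofPt_map]; rfl)
    (h _ _ hU' he _ (hI.comap (openIncl U V)) ⟨u, huV⟩)

theorem isEffCartierSub_of_mul {Z Y D : Sp S} (hX : IsAlgSpace X) {iZ : Z ⟶ X} {iY : Y ⟶ X} {iD : D ⟶ X}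
    {I J : IdealEt X} (hZ : IsCutOutBy I iZ) (hY : IsCutOutBy J iY) (hD : IsCutOutBy (I * J) iD)
    (hDc : IsEffCartierSub iD) : IsEffCartierSub iZ ∧ IsEffCartierSub iY := by
  refine ⟨isEffCartierSub_of_affine hX hZ.choose fun U ψ _ hψ K hK => ?_,
    isEffCartierSub_of_affine hX hY.choose fun U ψ _ hψ K hK => ?_⟩
  · obtain ⟨K', hK'⟩ := exists_cutsOut hY.choose ψ
    obtain ⟨KD, hKD⟩ := exists_cutsOut hD.choose ψ
    exact H29Blow.isEffCartierIdeal_left_of_mul
      (cutsOut_mul_eq hZ hY hD hψ hK hK' hKD ▸ isEffCartierIdeal_of_cutsOut hDc hψ hKD)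
  · obtain ⟨K', hK'⟩ := exists_cutsOut hZ.choose ψ
    obtain ⟨KD, hKD⟩ := exists_cutsOut hD.choose ψ
    exact H29Blow.isEffCartierIdeal_right_of_mul
      (cutsOut_mul_eq hZ hY hD hψ hK' hK hKD ▸ isEffCartierIdeal_of_cutsOut hDc hψ hKD)

theorem isEffCartierSub_mul {Z Y D : Sp S} (hX : IsAlgSpace X) {iZ : Z ⟶ X} {iY : Y ⟶ X} {iD : D ⟶ X}
    {I J : IdealEt X} (hZ : IsCutOutBy I iZ) (hY : IsCutOutBy J iY) (hD : IsCutOutBy (I * J) iD)
    (eZ : IsEffCartierSub iZ) (eY : IsEffCartierSub iY) : IsEffCartierSub iD := by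
  refine isEffCartierSub_of_affine hX hD.choose fun U ψ _ hψ K hK => ?_
  obtain ⟨KZ, hKZ⟩ := exists_cutsOut hZ.choose ψ
  obtain ⟨KY, hKY⟩ := exists_cutsOut hY.choose ψ
  rw [cutsOut_mul_eq hZ hY hD hψ hKZ hKY hK]
  exact H29Blow.isEffCartierIdeal_mul (isEffCartierIdeal_of_cutsOut eZ hψ hKZ)
    (isEffCartierIdeal_of_cutsOut eY hψ hKY)

end Groth.Agent.H13Cartier
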