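import Groth.Agent.H13Cartier.Space
import Groth.Agent.H13AlgSp.RelRep
import Groth.Agent.H12AlgSp.AffineMor

/-!
# Criteria for effective Cartier divisors on algebraic spaces
-/

universe u

open CategoryTheory CategoryTheory.Limits AlgebraicGeometry Opposite
open AlgSp Groth.Agent.H12AlgSp Groth.Agent.H13AlgSp

namespace Groth.Agent.H13Cartier

variable {S : Scheme.{u}}

/-- A chart of the source over a chart of the target. -/
theorem exists_chart_over {X Y : Sp S} (hX : IsAlgSpace X) (hY : IsAlgSpace Y) (f : X ⟶ Y) {V : Over S}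
    {φ : (yon S).obj V ⟶ Y} (hφ : RepWith @Etale φ) (hφs : RepWith @Surjective φ) :
    ∃ (T : Over S) (t : (yon S).obj T ⟶ X) (k : T ⟶ V),
      RepWith @Etale t ∧ RepWith @Surjective t ∧ t ≫ f = (yon S).map k ≫ φ := by
  have sq := IsPullback.of_hasPullback f φ
  obtain ⟨T, c, hce, hcs⟩ :=
    (isAlgSpace_of_isPullback hY.diag hX (IsAlgSpace.yon_obj V) sq).atlas
  obtain ⟨k, hk⟩ := (yon S).map_surjective (c ≫ pullback.snd f φ)
  exact ⟨T, c ≫ pullback.fst f φ, k, repWith_comp hce (repWith_of_isPullback sq.flip hφ),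
    repWith_comp hcs (repWith_of_isPullback sq.flip hφs), by rw [hk, Category.assoc, Category.assoc, sq.w]⟩

theorem isEffCartierSub_pullback_flat {X Y D P : Sp S} (hX : IsAlgSpace X) (hY : IsAlgSpace Y)
    {f : X ⟶ Y} (hf : LocP @Flat f) {i : D ⟶ Y} (hD : IsEffCartierSub i) {fst : P ⟶ D} {snd : P ⟶ X}
    (hP : IsPullback fst snd i f) : IsEffCartierSub snd := by
  obtain ⟨hi, V, φ, J, l, hφ, hφs, sq, hJ⟩ := hD
  obtain ⟨T, t, k, hte, hts, e⟩ := exists_chart_over hX hY f hφ hφs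
  have : Flat k.left := hf t φ k hte hφ e
  have hc : CutsOut i φ J := ⟨l, sq⟩
  exact isEffCartierSub_of_cutsOut (repWith_of_isPullback hP hi) hte hts
    (cutsOut_of_isPullback hP (e.symm ▸ hc.comap k)) (H29Blow.isEffCartierIdeal_comap_of_flat hJ k.left)

theorem isEffCartierSub_iff_nbhd {X D : Sp S} (hX : IsAlgSpace X) {i : D ⟶ X}
    (hi : RepWith @IsClosedImmersion i) :
    IsEffCartierSub i ↔
      ∀ x : Points D,
        ∃ (U : Over S) (_ : IsAffine U.left) (a : (yon S).obj U ⟶ X) (u : ↥U.left)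
          (f : Γ(U.left, ⊤)) (I : U.left.IdealSheafData)
          (fst : (yon S).obj (Over.mk (I.subschemeι ≫ U.hom)) ⟶ D),
          RepWith @Etale a ∧ Points.ofPt a u = Points.map i x ∧
            f ∈ nonZeroDivisors Γ(U.left, ⊤) ∧
            I.ideal ⟨⊤, isAffineOpen_top U.left⟩ = Ideal.span {f} ∧
            IsPullback fst ((yon S).map (Over.homMk I.subschemeι rfl : Over.mk (I.subschemeι ≫ U.hom) ⟶ U)) i a := by
  constructor
  · intro ⟨_, V, φ, J, l, hφ, hφs, sq, hJ⟩ x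
    obtain ⟨v, hv⟩ := surjective_ofPt_of_repWith le_rfl hφs (Points.map i x)
    obtain ⟨V', hvV', f, hf, hfV⟩ := hJ v
    have hc : CutsOut i φ J := ⟨l, sq⟩
    obtain ⟨fst, hpb⟩ := hc.comap (openIncl V V'.1)
    have hjo : RepWith @Etale ((yon S).map (openIncl V V'.1)) :=
      (repWith_yon_map_iff _ _).2 (inferInstanceAs (Etale V'.1.ι))
    have hU : IsAffine (openOver V V'.1).left := V'.2
    refine ⟨openOver V V'.1, hU, (yon S).map (openIncl V V'.1) ≫ φ, ⟨v, hvV'⟩,
      V'.1.topIso.inv.hom f, J.comap V'.1.ι, fst, repWith_comp hjo hφ, ?_, ?_, ?_, hpb⟩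
    · rw [ofPt_map]; exact hv
    · exact H29Blow.mem_nonZeroDivisors_map_of_flat
        (RingHom.Flat.of_bijective (ConcreteCategory.bijective_of_isIso V'.1.topIso.inv)) hf
    · exact (H29Blow.ideal_comap_ι J V').trans (by rw [hfV, Ideal.map_span, Set.image_singleton]; rfl)
  · intro h
    obtain ⟨U, ψ, hψ, hψs⟩ := hX.atlas
    obtain ⟨I, hI⟩ := exists_cutsOut hi ψ
    refine isEffCartierSub_of_cutsOut hi hψ hψs hI fun u => ?_
    by_cases hu : u ∈ I.support
    · obtain ⟨fst, sq⟩ := id hI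
      rw [← SetLike.mem_coe, ← I.range_subschemeι] at hu
      obtain ⟨y, rfl⟩ := hu
      obtain ⟨U', hU', a, u', f, I', fst', ha, hu', hf, hI', sq'⟩ := h (Points.ofPt fst y)
      refine hI.genNear ⟨fst', sq'⟩ hψ ha _ u' ?_ ⟨⟨⊤, isAffineOpen_top _⟩, trivial, f, hf, hI'⟩
      rw [hu', Points.map_ofPt, sq.w, ofPt_map]
      rfl
    · exact genNear_of_notMem_support I hu

end Groth.Agent.H13Cartier
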