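import Groth.Agent.H29Blow.Basic
import Mathlib.AlgebraicGeometry.Morphisms.UniversallyOpen
import Mathlib.AlgebraicGeometry.Morphisms.Flat

/-!
# Effective Cartier ideals descend along flat morphisms of finite presentation
-/

universe u

open CategoryTheory Limits AlgebraicGeometry TopologicalSpace

namespace Groth.Agent.H13Cartier

variable {X Y : Scheme.{u}}

/-- The ideal sheaf is generated by one nonzerodivisor on an affine neighbourhood of `x`. -/
def GenNear (I : X.IdealSheafData) (x : X) : Prop :=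
  ∃ V : X.affineOpens, x ∈ V.1 ∧
    ∃ f : Γ(X, V.1), f ∈ nonZeroDivisors Γ(X, V.1) ∧ I.ideal V = Ideal.span {f}

lemma genNear_of_notMem_support (I : X.IdealSheafData) {x : X} (hx : x ∉ I.support) : GenNear I x := by
  obtain ⟨V, hV, hxV, hle⟩ := exists_isAffineOpen_mem_and_subset
    (U := (⟨(I.support : Set X)ᶜ, I.support.isClosed.isOpen_compl⟩ : X.Opens)) (x := x) hx
  refine ⟨⟨V, hV⟩, hxV, 1, one_mem _, ?_⟩
  rw [Ideal.span_singleton_one]
  by_contra hne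
  obtain ⟨m, hm, hle'⟩ := Ideal.exists_le_maximal _ hne
  let y : X := hV.fromSpec ⟨m, hm.isPrime⟩
  have hyV : y ∈ V := hV.range_fromSpec.le ⟨_, rfl⟩
  refine hle hyV ((Scheme.IdealSheafData.mem_support_iff_of_mem (U := ⟨V, hV⟩) hyV).mpr ?_)
  rw [Scheme.mem_zeroLocus_iff]
  intro e he hy
  have : (⟨m, hm.isPrime⟩ : PrimeSpectrum Γ(X, V)) ∈ hV.fromSpec ⁻¹ᵁ X.basicOpen e := hy
  rw [hV.fromSpec_preimage_basicOpen] at this
  exact this (hle' he)

/-- Shrinking: a generator near `x` may be found inside any neighbourhood. -/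
lemma GenNear.exists_le {I : X.IdealSheafData} {x : X} (h : GenNear I x) {W : X.Opens} (hx : x ∈ W) :
    ∃ V : X.affineOpens, x ∈ V.1 ∧ V.1 ≤ W ∧
      ∃ f : Γ(X, V.1), f ∈ nonZeroDivisors Γ(X, V.1) ∧ I.ideal V = Ideal.span {f} := by
  obtain ⟨U, hxU, f, hf, hfU⟩ := h
  obtain ⟨V, hV, hxV, hVU⟩ := exists_isAffineOpen_mem_and_subset (U := U.1 ⊓ W) ⟨hxU, hx⟩
  have hle : V ≤ U.1 := fun y hy => (hVU hy).1
  exact ⟨⟨V, hV⟩, hxV, fun y hy => (hVU hy).2, _, H29Blow.res_mem_nonZeroDivisors (W := ⟨V, hV⟩) hle hf,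
    H29Blow.ideal_eq_span_res (W := ⟨V, hV⟩) hle hfU⟩

/-- An ideal sheaf generated by one nonzerodivisor near a point of the source comes from one
generated by one nonzerodivisor near its image, along flat maps of finite presentation. -/
lemma genNear_of_flat (g : X ⟶ Y) [Flat g] [LocallyOfFinitePresentation g] (I : Y.IdealSheafData)
    (x : X) (h : GenNear (I.comap g) x) : GenNear I (g x) := by
  obtain ⟨U₀, hU₀, hyU₀, -⟩ := exists_isAffineOpen_mem_and_subset (Opens.mem_top (g x))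
  obtain ⟨V, hxV, hVU, b, hb, hbV⟩ := h.exists_le (W := g ⁻¹ᵁ U₀) hyU₀
  set φ := g.appLE U₀ V.1 hVU with hφ
  have hmap : (I.ideal ⟨U₀, hU₀⟩).map φ.hom = Ideal.span {b} := by
    rw [← hbV, H29Blow.ideal_comap I g ⟨U₀, hU₀⟩ V hVU]
  -- an element of the ideal dividing to a function nonzero at `x`
  set q : Ideal Γ(X, V.1) := (V.2.primeIdealOf ⟨x, hxV⟩).asIdeal with hq
  have hdvd : ∀ a ∈ I.ideal ⟨U₀, hU₀⟩, ∃ d, φ.hom a = d * b := fun a ha => by
    have := hmap.le (Ideal.mem_map_of_mem φ.hom ha)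
    obtain ⟨d, hd⟩ := Ideal.mem_span_singleton'.mp this
    exact ⟨d, hd.symm⟩
  obtain ⟨a, ha, d, hd, hdq⟩ : ∃ a ∈ I.ideal ⟨U₀, hU₀⟩, ∃ d, φ.hom a = d * b ∧ d ∉ q := by
    by_contra hc
    push Not at hc
    have : Ideal.span {b} ≤ Ideal.span {b} * q := by
      refine hmap.ge.trans (Ideal.map_le_iff_le_comap.mpr fun a ha => ?_)
      obtain ⟨d, hd⟩ := hdvd a ha
      change φ.hom a ∈ Ideal.span {b} * q
      rw [hd, mul_comm d b]
      exact Ideal.mul_mem_mul (Ideal.mem_span_singleton_self b) (hc a ha d hd)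
    obtain ⟨t, ht, hbt⟩ := Ideal.mem_span_singleton_mul.mp (this (Ideal.mem_span_singleton_self b))
    have h1 : (t - 1) * b = 0 := by rw [sub_mul, one_mul, mul_comm t b, hbt, sub_self]
    have : t = 1 := sub_eq_zero.mp ((mem_nonZeroDivisors_iff.mp hb).2 _ h1)
    exact (V.2.primeIdealOf ⟨x, hxV⟩).isPrime.ne_top ((Ideal.eq_top_iff_one _).mpr (this ▸ ht))
  let W : X.affineOpens := X.affineBasicOpen d
  have hxW : x ∈ W.1 := by
    have hx' : (V.2.primeIdealOf ⟨x, hxV⟩) ∈ PrimeSpectrum.basicOpen d := hdq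
    rw [← V.2.fromSpec_preimage_basicOpen] at hx'
    change V.2.fromSpec _ ∈ X.basicOpen d at hx'
    rwa [V.2.fromSpec_primeIdealOf] at hx'
  have hWV : W.1 ≤ V.1 := X.basicOpen_le d
  -- the image of `W` is an open neighbourhood of `g x`
  let O : Y.Opens := ⟨g '' (W.1 : Set X), g.isOpenMap _ W.1.isOpen⟩
  obtain ⟨s, hsO, hys⟩ := hU₀.exists_basicOpen_le (V := O) ⟨g x, x, hxW, rfl⟩ hyU₀
  let U' : Y.affineOpens := ⟨Y.basicOpen s, hU₀.basicOpen s⟩
  have hWU₀ : W.1 ≤ g ⁻¹ᵁ U₀ := hWV.trans hVU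
  let W' : X.affineOpens := X.affineBasicOpen ((g.appLE U₀ W.1 hWU₀).hom s)
  have hW'eq : W'.1 = W.1 ⊓ g ⁻¹ᵁ U'.1 := Scheme.basicOpen_appLE g W.1 U₀ hWU₀ s
  have hW'U' : W'.1 ≤ g ⁻¹ᵁ U'.1 := hW'eq.le.trans inf_le_right
  have hW'W : W'.1 ≤ W.1 := hW'eq.le.trans inf_le_left
  have hU'U₀ : U'.1 ≤ U₀ := Y.basicOpen_le s
  refine ⟨U', hys, (Y.presheaf.map (homOfLE hU'U₀).op).hom a, ?_⟩
  set ψ := g.appLE U'.1 W'.1 hW'U' with hψ
  -- faithful flatness of the restricted map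
  have hsurj : Function.Surjective (PrimeSpectrum.comap ψ.hom) := by
    intro p
    obtain ⟨w, hwW, hgw⟩ : U'.2.fromSpec p ∈ g '' (W.1 : Set X) :=
      hsO (U'.2.range_fromSpec.le ⟨p, rfl⟩)
    have hw : w ∈ W'.1 := by
      rw [hW'eq]
      exact ⟨hwW, (show g w ∈ U'.1 from hgw.symm ▸ U'.2.range_fromSpec.le ⟨p, rfl⟩)⟩
    refine ⟨W'.2.primeIdealOf ⟨w, hw⟩, ?_⟩
    rw [IsAffineOpen.comap_primeIdealOf_appLE U'.1 U'.2 W'.1 W'.2 hW'U' hw]
    have := U'.2.isOpenImmersion_fromSpec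
    apply U'.2.fromSpec.isOpenEmbedding.injective
    rw [U'.2.fromSpec_primeIdealOf]
    exact hgw
  have hff : ψ.hom.FaithfullyFlat :=
    RingHom.FaithfullyFlat.iff_flat_and_comap_surjective.mpr ⟨H29Blow.flat_appLE' g U' W' hW'U', hsurj⟩
  algebraize [ψ.hom]
  have : Module.FaithfullyFlat Γ(Y, U'.1) Γ(X, W'.1) := hff
  set ρ := (Y.presheaf.map (homOfLE hU'U₀).op).hom
  set σ := (X.presheaf.map (homOfLE (hW'W.trans hWV)).op).hom
  have hsq : ∀ t : Γ(Y, U₀), ψ.hom (ρ t) = σ (φ.hom t) := fun t => by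
    have h1 : Y.presheaf.map (homOfLE hU'U₀).op ≫ ψ = φ ≫ X.presheaf.map (homOfLE (hW'W.trans hWV)).op := by
      rw [hψ, hφ, Scheme.Hom.map_appLE, Scheme.Hom.appLE_map]
    exact congr($(h1).hom t)
  -- the image of `d` is a unit on `W'`
  have hdu : IsUnit (σ d) := by
    have h1 : IsUnit ((X.presheaf.map (homOfLE hWV).op).hom d) := RingedSpace.isUnit_res_basicOpen _ d
    have h2 := h1.map (X.presheaf.map (homOfLE hW'W).op).hom
    rw [← CommRingCat.comp_apply, ← Functor.map_comp] at h2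
    exact h2
  have hgen : (I.ideal U').map ψ.hom = Ideal.span {ψ.hom (ρ a)} := by
    rw [← I.map_ideal (U := U') (V := ⟨U₀, hU₀⟩) hU'U₀, Ideal.map_map]
    change Ideal.map (ψ.hom.comp ρ) _ = _
    rw [show ψ.hom.comp ρ = σ.comp φ.hom from RingHom.ext hsq, ← Ideal.map_map, hmap, Ideal.map_span,
      Set.image_singleton, hsq, hd, map_mul, Ideal.span_singleton_mul_left_unit hdu]
  have hinj : Function.Injective (algebraMap Γ(Y, U'.1) Γ(X, W'.1)) :=
    FaithfulSMul.algebraMap_injective _ _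
  refine ⟨mem_nonZeroDivisors_iff_right.mpr fun z hz => hinj ?_, ?_⟩
  · rw [map_zero]
    have h1 : ψ.hom (ρ a) ∈ nonZeroDivisors Γ(X, W'.1) := by
      rw [hsq, hd, map_mul]
      exact mul_mem hdu.mem_nonZeroDivisors (H29Blow.res_mem_nonZeroDivisors (V := V) (W := W') (hW'W.trans hWV) hb)
    refine (mem_nonZeroDivisors_iff_right.mp h1) _ ?_
    change ψ.hom z * ψ.hom (ρ a) = 0
    rw [← map_mul, hz, map_zero]
  · have h1 := Ideal.comap_map_eq_self_of_faithfullyFlat (B := Γ(X, W'.1)) (I.ideal U')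
    have h2 := Ideal.comap_map_eq_self_of_faithfullyFlat (B := Γ(X, W'.1)) (Ideal.span {ρ a})
    rw [← h1, ← h2, Ideal.map_span, Set.image_singleton]
    exact congrArg (Ideal.comap (algebraMap Γ(Y, U'.1) Γ(X, W'.1))) hgen

end Groth.Agent.H13Cartier
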