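import Groth.Agent.H13Cartier.Criteria
import Groth.Agent.H05EGA4.NormalAscent
import Groth.Agent.S1685
import Groth.Agent.S1686
import Groth.Prelude.Def_AlgSpDec
import Groth.Prelude.Def_Pi1

/-!
# Dimension and Serre's conditions along effective Cartier divisors on algebraic spaces
-/

universe u

open CategoryTheory CategoryTheory.Limits AlgebraicGeometry Opposite
open AlgSp Groth.Agent.H12AlgSp Groth.Agent.H13AlgSp

namespace Groth.Agent.H13Cartier

/-- Serre's condition `S_k` on all local rings. -/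
abbrev SerreS (k : ℕ) (U : Scheme.{u}) : Prop :=
  IsLocallyNoetherian U ∧ ∀ x : ↥U,
    min ((k : ℕ) : WithBot ℕ∞) (ringKrullDim ↥(U.presheaf.stalk x)) ≤
      ((LocCoh.depth ↥(U.presheaf.stalk x) ↥(U.presheaf.stalk x) : ℕ∞) : WithBot ℕ∞)

theorem serreS_two_of_normal {U : Scheme.{u}} [IsLocallyNoetherian U] (h : Pi1.IsNormalScheme U) :
    SerreS 2 U := by
  refine ⟨inferInstance, fun x => ?_⟩
  obtain ⟨hd, hi⟩ := h x
  set A := U.presheaf.stalk x
  have hbot := ringKrullDim_ne_bot (R := A)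
  have htop := ringKrullDim_ne_top (R := A)
  obtain ⟨a', ha'⟩ := WithBot.ne_bot_iff_exists.mp hbot
  obtain ⟨a, rfl⟩ : ∃ a : ℕ, a' = a := by
    cases a' with
    | top => exact absurd ha'.symm htop
    | coe a => exact ⟨a, rfl⟩
  cases hdep : LocCoh.depth A A with
  | top => exact le_top
  | coe d =>
    have := Groth.Agent.H05EGA4.natCast_min_le_depth_of_isIntegrallyClosed A ha'.symm hdep
    rw [← ha']
    rcases min_le_iff.mp this with h' | h'
    · exact (min_le_left _ _).trans (WithBot.coe_le_coe.mpr (ENat.coe_le_coe.mpr h'))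
    · exact (min_le_right _ _).trans (by exact_mod_cast h')

variable {S : Scheme.{u}}

theorem hasAt_localDim_lt {X D : Sp S} {i : D ⟶ X} (hD : IsEffCartierSub i) (x : Points D) {d : WithBot ℕ∞}
    (hd : HasAt (fun U u => FlatMor.localDim ↥U u = d) X (Points.map i x)) (hfin : d ≠ ⊤) :
    HasAt (fun V v => FlatMor.localDim ↥V v < d) D x := by
  obtain ⟨U, a, u, ha, hu, rfl⟩ := hd
  obtain ⟨I, hI⟩ := exists_cutsOut hD.1 a
  have hc := isEffCartierIdeal_of_cutsOut hD ha hI
  obtain ⟨fst, sq⟩ := id hI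
  obtain ⟨p, hp₁, hp₂⟩ := exists_point_of_isPullback sq x (Points.ofScheme U u)
    (by rw [← Points.ofPt_eq_map_ofScheme, hu])
  obtain ⟨y, rfl⟩ := (Points.schemeEquiv _).surjective p
  obtain rfl : I.subschemeι y = u :=
    (Points.schemeEquiv U).injective ((Points.map_yon_map_apply (subIncl U I) y).symm.trans hp₂)
  exact ⟨subOver U I, fst, y, repWith_of_isPullback sq.flip ha,
    (Points.ofPt_eq_map_ofScheme fst y).trans hp₁, Groth.Agent.S1686.result U.left I hc y hfin⟩

theorem etaleLocally_serreS {X D : Sp S} (k : ℕ) (hX : EtaleLocally (SerreS k) X) {i : D ⟶ X}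
    (hD : IsEffCartierSub i) : EtaleLocally (SerreS (k - 1)) D := by
  obtain ⟨V, φ, hφ, hφs, hV, hS⟩ := hX
  obtain ⟨I, hI⟩ := exists_cutsOut hD.1 φ
  have hc := isEffCartierIdeal_of_cutsOut hD hφ hI
  obtain ⟨fst, sq⟩ := id hI
  exact ⟨subOver V I, fst, repWith_of_isPullback sq.flip hφ, repWith_of_isPullback sq.flip hφs,
    LocallyOfFiniteType.isLocallyNoetherian I.subschemeι,
    fun v => Groth.Agent.S1685.result V.left k hS I hc v⟩

end Groth.Agent.H13Cartier
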