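import Groth.Agent.H13Cartier.ValExtendAlg
import Groth.Agent.H12AlgSp.SchImage

/-!
Effective Cartier divisors extend from the generic fibre of a smooth space over a valuation ring.
-/

set_option autoImplicit false
set_option linter.style.haveILetI false
set_option linter.unusedSectionVars false
set_option backward.isDefEq.respectTransparency false

universe u

open CategoryTheory CategoryTheory.Limits AlgebraicGeometry Opposite TopologicalSpace
open scoped nonZeroDivisors
open AlgSp Groth.Agent.H12AlgSp Groth.Agent.H13AlgSp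

namespace Groth.Agent.H13Cartier.ValExtend

section scheme

variable {V K : Type u} [CommRing V] [IsDomain V] [ValuationRing V] [Field K] [Algebra V K] [IsFractionRing V K]

/-- An effective Cartier ideal gives a module freely generated by one element near every prime. -/
theorem genOn_ideal {X : Scheme.{u}} {J : X.IdealSheafData} (hJ : BlowUp.IsEffCartierIdeal J)
    (W : X.affineOpens) (P : PrimeSpectrum Γ(X, W.1)) :
    ∃ (b : Γ(X, W.1)) (m : J.ideal W), b ∉ P.asIdeal ∧ H11Tilde.GenOn b m := by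
  let y : X := W.2.fromSpec P
  have hyW : y ∈ W.1 := W.2.range_fromSpec.le ⟨P, rfl⟩
  obtain ⟨V₁, hy, hle, f, hf, hfV⟩ := H29Blow.exists_gen hJ (W := W.1) hyW
  obtain ⟨b, hbV, hyb⟩ := W.2.exists_basicOpen_le (V := V₁.1) ⟨y, hy⟩ hyW
  have hbP : b ∉ P.asIdeal := by
    have : P ∈ W.2.fromSpec ⁻¹ᵁ X.basicOpen b := hyb
    rwa [W.2.fromSpec_preimage_basicOpen] at this
  let Wb : X.affineOpens := X.affineBasicOpen b
  letI := W.2.isLocalization_basicOpen b
  obtain ⟨f', hb1, hb2⟩ : ∃ f' : Γ(X, X.basicOpen b), f' ∈ nonZeroDivisors Γ(X, X.basicOpen b) ∧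
      J.ideal (X.affineBasicOpen b) = Ideal.span {f'} :=
    ⟨_, H29Blow.res_mem_nonZeroDivisors (W := Wb) hbV hf, H29Blow.ideal_eq_span_res (W := Wb) hbV hfV⟩
  have hmap : (J.ideal W).map (algebraMap Γ(X, W.1) Γ(X, X.basicOpen b)) = J.ideal Wb :=
    J.map_ideal_basicOpen W b
  have hf' : f' ∈ (J.ideal W).map (algebraMap Γ(X, W.1) Γ(X, X.basicOpen b)) := by
    rw [hmap, hb2]; exact Ideal.mem_span_singleton_self f'
  obtain ⟨⟨m, ⟨_, n, rfl⟩⟩, hm⟩ := (IsLocalization.mem_map_algebraMap_iff (Submonoid.powers b) _).1 hf'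
  change f' * algebraMap _ _ (b ^ n) = algebraMap _ _ (m : Γ(X, W.1)) at hm
  have hu : IsUnit (algebraMap Γ(X, W.1) Γ(X, X.basicOpen b) (b ^ n)) :=
    IsLocalization.map_units _ (⟨_, n, rfl⟩ : Submonoid.powers b)
  refine ⟨b, m, hbP, fun x => ?_, fun a ha => ?_⟩
  · have hx : algebraMap Γ(X, W.1) Γ(X, X.basicOpen b) (x : Γ(X, W.1)) ∈ J.ideal Wb :=
      hmap ▸ Ideal.mem_map_of_mem _ x.2
    rw [hb2] at hx
    obtain ⟨c, hc⟩ := Ideal.mem_span_singleton'.1 hx
    obtain ⟨⟨c₀, ⟨_, k, rfl⟩⟩, hc₀⟩ := IsLocalization.surj (Submonoid.powers b) c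
    change c * algebraMap _ _ (b ^ k) = algebraMap _ _ c₀ at hc₀
    have h1 : algebraMap Γ(X, W.1) Γ(X, X.basicOpen b) (b ^ (k + n) * x.1) =
        algebraMap Γ(X, W.1) Γ(X, X.basicOpen b) (c₀ * m.1) := by
      rw [map_mul, map_mul, ← hc, ← hc₀, ← hm, pow_add, map_mul]; ring
    obtain ⟨⟨_, e, rfl⟩, he⟩ := (IsLocalization.eq_iff_exists (Submonoid.powers b) _).1 h1
    refine ⟨e + (k + n), b ^ e * c₀, Subtype.ext ?_⟩
    change b ^ (e + (k + n)) * x.1 = b ^ e * c₀ * m.1
    change b ^ e * (b ^ (k + n) * x.1) = b ^ e * (c₀ * m.1) at he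
    rw [pow_add, mul_assoc, he, mul_assoc]
  · have h1 : algebraMap Γ(X, W.1) Γ(X, X.basicOpen b) a = 0 := by
      have h2 : algebraMap Γ(X, W.1) Γ(X, X.basicOpen b) (a * m.1) = 0 := by
        rw [show a * m.1 = 0 from congrArg Subtype.val ha, map_zero]
      rw [map_mul, ← hm, ← mul_assoc, mul_right_comm] at h2
      exact hu.mul_left_eq_zero.mp ((mem_nonZeroDivisors_iff_right.1 hb1) _ h2)
    obtain ⟨⟨_, e, rfl⟩, he⟩ := (IsLocalization.map_eq_zero_iff (Submonoid.powers b) _ _).1 h1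
    exact ⟨e, he⟩

theorem isEffCartierIdeal_ker {U UK : Scheme.{u}} {h : U ⟶ Spec (CommRingCat.of V)} [Smooth h]
    {π : UK ⟶ U} {hK : UK ⟶ Spec (CommRingCat.of K)}
    (sq : IsPullback π hK h (Spec.map (CommRingCat.ofHom (algebraMap V K))))
    {J : UK.IdealSheafData} (hJ : BlowUp.IsEffCartierIdeal J) :
    BlowUp.IsEffCartierIdeal (J.subschemeι ≫ π).ker := by
  haveI : IsAffineHom π := MorphismProperty.of_isPullback sq.flip inferInstance
  haveI : LocallyOfFiniteType hK := MorphismProperty.of_isPullback sq (inferInstance : LocallyOfFiniteType h)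
  haveI : IsLocallyNoetherian UK := LocallyOfFiniteType.isLocallyNoetherian hK
  intro x
  obtain ⟨W, hW, hxW, -⟩ := exists_isAffineOpen_mem_and_subset (U := (⊤ : U.Opens)) (x := x) trivial
  let WK : UK.affineOpens := ⟨π ⁻¹ᵁ W, hW.preimage π⟩
  haveI : IsNoetherianRing Γ(UK, WK.1) := IsLocallyNoetherian.component_noetherian WK
  letI : Algebra V Γ(U, W) :=
    ((h.appLE ⊤ W le_top).hom.comp (Scheme.ΓSpecIso (CommRingCat.of V)).inv.hom).toAlgebra
  letI : Algebra Γ(U, W) Γ(UK, WK.1) := (π.app W).hom.toAlgebra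
  haveI : Algebra.Smooth V Γ(U, W) := by
    have h1 := HasRingHomProperty.appLE (P := @Smooth) h inferInstance
      ⟨⊤, isAffineOpen_top _⟩ ⟨W, hW⟩ (le_top : W ≤ h ⁻¹ᵁ ⊤)
    have h2 : (algebraMap V Γ(U, W)).Smooth :=
      RingHom.Smooth.respectsIso.2 (h.appLE ⊤ W le_top).hom
        (Scheme.ΓSpecIso (CommRingCat.of V)).commRingCatIsoToRingEquiv.symm h1
    exact RingHom.smooth_algebraMap.1 h2
  haveI : IsLocalization (Algebra.algebraMapSubmonoid Γ(U, W) V⁰) Γ(UK, WK.1) := by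
    have hp := (isIso_pushoutSection_iff sq.flip.flip (US := ⊤) (UT := ⊤) (UX := W) (UY := π ⁻¹ᵁ W)
      le_top le_top (by simp)).1 (isIso_pushoutSection_of_isAffineOpen sq le_top le_top (by simp)
        (isAffineOpen_top _) (isAffineOpen_top _) hW)
    let eV := (Scheme.ΓSpecIso (CommRingCat.of V)).symm
    let eK := (Scheme.ΓSpecIso (CommRingCat.of K)).symm
    let g₀ := Spec.map (CommRingCat.ofHom (algebraMap V K))
    let Fk : K →+* Γ(UK, π ⁻¹ᵁ W) := (hK.appLE ⊤ (π ⁻¹ᵁ W) le_top).hom.comp eK.hom.hom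
    letI : Algebra K Γ(UK, WK.1) := Fk.toAlgebra
    letI : Algebra V Γ(UK, WK.1) := ((algebraMap Γ(U, W) Γ(UK, WK.1)).comp (algebraMap V Γ(U, W))).toAlgebra
    haveI : IsScalarTower V Γ(U, W) Γ(UK, WK.1) := IsScalarTower.of_algebraMap_eq fun _ => rfl
    have hsq : CommRingCat.ofHom (algebraMap V K) ≫ eK.hom = eV.hom ≫ g₀.appLE ⊤ ⊤ le_top := by
      show _ = eV.hom ≫ _
      rw [show g₀.appLE ⊤ ⊤ le_top = g₀.appTop by simp [Scheme.Hom.appLE]]
      exact (Scheme.ΓSpecIso_inv_naturality (CommRingCat.ofHom (algebraMap V K))).symm ▸ rfl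
    have hp' : IsPushout (CommRingCat.ofHom (algebraMap V Γ(U, W))) (CommRingCat.ofHom (algebraMap V K))
        (CommRingCat.ofHom (algebraMap Γ(U, W) Γ(UK, WK.1))) (CommRingCat.ofHom Fk) := by
      refine hp.of_iso eV.symm (Iso.refl _) eK.symm (Iso.refl _) ?_ ?_ ?_ ?_
      · rw [Iso.refl_hom, Category.comp_id, Iso.symm_hom, Iso.eq_inv_comp]
        rfl
      · rw [Iso.symm_hom, Iso.symm_hom, Iso.comp_inv_eq, Category.assoc, hsq, Iso.inv_hom_id_assoc]
      · rw [Iso.refl_hom, Iso.refl_hom, Category.id_comp, Category.comp_id]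
        exact π.appLE_eq_app.trans rfl
      · rw [Iso.refl_hom, Category.comp_id, Iso.symm_hom, Iso.eq_inv_comp]
        rfl
    haveI : IsScalarTower V K Γ(UK, WK.1) :=
      IsScalarTower.of_algebraMap_eq fun v => ConcreteCategory.congr_hom hp'.w v
    haveI : Algebra.IsPushout V Γ(U, W) K Γ(UK, WK.1) := CommRingCat.isPushout_iff_isPushout.1 hp'
    haveI : Algebra.IsPushout V K Γ(U, W) Γ(UK, WK.1) := Algebra.IsPushout.symm ‹_›
    exact (Algebra.isLocalization_iff_isPushout (S := V⁰) (A := K)).2 inferInstance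
  have hideal : (J.subschemeι ≫ π).ker.ideal ⟨W, hW⟩ = (J.ideal WK).comap (algebraMap Γ(U, W) Γ(UK, WK.1)) := by
    conv_rhs => rw [← J.ker_subschemeι]
    rw [Scheme.Hom.ker_apply, Scheme.Hom.ker_apply, Scheme.Hom.comp_app, CommRingCat.hom_comp,
      ← RingHom.comap_ker]
    rfl
  obtain ⟨t, g, ht, hgJ, hgen, hnzd⟩ := ValExtendAlg.exists_gen_near V (J.ideal WK)
    (genOn_ideal hJ WK) (hW.primeIdealOf ⟨x, hxW⟩).asIdeal
  let Wt : U.affineOpens := U.affineBasicOpen (U := ⟨W, hW⟩) t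
  have hxt : x ∈ Wt.1 := by
    have h2 : hW.primeIdealOf ⟨x, hxW⟩ ∈ hW.fromSpec ⁻¹ᵁ U.basicOpen t := by
      rw [hW.fromSpec_preimage_basicOpen]
      exact ht
    change hW.fromSpec (hW.primeIdealOf ⟨x, hxW⟩) ∈ U.basicOpen t at h2
    rwa [hW.fromSpec_primeIdealOf] at h2
  letI := hW.isLocalization_basicOpen t
  obtain ⟨g', hg'⟩ : ∃ g' : Γ(U, U.basicOpen t), g' = algebraMap Γ(U, W) Γ(U, U.basicOpen t) g := ⟨_, rfl⟩
  have hnz : g' ∈ nonZeroDivisors Γ(U, U.basicOpen t) := by
    refine mem_nonZeroDivisors_iff_right.2 fun y hy => ?_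
    rw [hg'] at hy
    obtain ⟨⟨y₀, ⟨_, k, rfl⟩⟩, hy₀⟩ := IsLocalization.surj (Submonoid.powers t) y
    change y * algebraMap _ _ (t ^ k) = algebraMap _ _ y₀ at hy₀
    obtain ⟨⟨_, e, rfl⟩, he⟩ := (IsLocalization.map_eq_zero_iff (Submonoid.powers t) Γ(U, U.basicOpen t) (g * y₀)).1
      (by rw [map_mul, ← hy₀, ← mul_assoc, mul_comm _ y, hy, zero_mul])
    change t ^ e * (g * y₀) = 0 at he
    obtain ⟨n, hn⟩ := hnzd (t ^ e * y₀) (by rw [← he]; ring)
    refine (IsLocalization.map_units Γ(U, U.basicOpen t) (⟨_, k, rfl⟩ : Submonoid.powers t)).mul_left_eq_zero.mp ?_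
    change y * algebraMap _ _ (t ^ k) = 0
    rw [hy₀]
    exact (IsLocalization.map_eq_zero_iff (Submonoid.powers t) _ _).2
      ⟨⟨t ^ (n + e), n + e, rfl⟩, by show t ^ (n + e) * y₀ = 0; rw [pow_add, mul_assoc]; exact hn⟩
  have hspan : Ideal.map (algebraMap Γ(U, W) Γ(U, U.basicOpen t))
      ((J.ideal WK).comap (algebraMap Γ(U, W) Γ(UK, WK.1))) = Ideal.span {g'} := by
    subst hg'
    refine le_antisymm (Ideal.map_le_iff_le_comap.2 fun z hz => ?_)
      (Ideal.span_le.2 (Set.singleton_subset_iff.2 (Ideal.mem_map_of_mem _ hgJ)))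
    obtain ⟨n, a, hna⟩ := hgen z hz
    obtain ⟨u, hu⟩ := IsLocalization.map_units Γ(U, U.basicOpen t) (⟨_, n, rfl⟩ : Submonoid.powers t)
    refine Ideal.mem_span_singleton'.2 ⟨(↑u⁻¹ : Γ(U, U.basicOpen t)) * algebraMap _ _ a, ?_⟩
    change (u : Γ(U, U.basicOpen t)) = algebraMap _ _ (t ^ n) at hu
    rw [mul_assoc, ← map_mul, ← hna, map_mul, ← hu, ← mul_assoc, Units.inv_mul, one_mul]
  refine ⟨Wt, hxt, g', hnz, ?_⟩
  exact ((J.subschemeι ≫ π).ker.map_ideal_basicOpen ⟨W, hW⟩ t).symm.trans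
    ((congrArg (Ideal.map (algebraMap Γ(U, W) Γ(U, U.basicOpen t))) hideal).trans hspan)

end scheme

theorem mono_genericMap {V K : Type u} [CommRing V] [CommRing K] [Algebra V K] {M : Submonoid V}
    [IsLocalization M K] : Mono (Spec.map (CommRingCat.ofHom (algebraMap V K))) := by
  haveI : Epi (CommRingCat.ofHom (algebraMap V K)) := ⟨fun a b e => CommRingCat.hom_ext
    (IsLocalization.ringHom_ext M (congrArg CommRingCat.Hom.hom e))⟩
  exact inferInstanceAs (Mono (Scheme.Spec.map (CommRingCat.ofHom (algebraMap V K)).op))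

variable {S : Scheme.{u}}

theorem exists_extension {R K : Type u} [CommRing R] [IsDomain R] [ValuationRing R] [Field K] [Algebra R K]
    [IsFractionRing R K] (str : Spec (CommRingCat.of R) ⟶ S) {X XK D : Sp S} (hX : IsAlgSpace X)
    (hD' : IsAlgSpace D) {f : X ⟶ (yon S).obj (Over.mk str)} (hf : LocP @Smooth f) {gK : XK ⟶ X}
    {fK : XK ⟶ (yon S).obj (Over.mk (Spec.map (CommRingCat.ofHom (algebraMap R K)) ≫ str))}
    (hXK : IsPullback gK fK f ((yon S).map (Over.homMk (Spec.map (CommRingCat.ofHom (algebraMap R K))) rfl :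
      Over.mk (Spec.map (CommRingCat.ofHom (algebraMap R K)) ≫ str) ⟶ Over.mk str)))
    {i : D ⟶ XK} (hD : IsEffCartierSub i) :
    ∃ (D' : Sp S) (i' : D' ⟶ X) (k : D ⟶ D'),
      IsAlgSpace D' ∧ IsEffCartierSub i' ∧ IsPullback k i i' gK := by
  let T : Over S := Over.mk str
  let TK : Over S := Over.mk (Spec.map (CommRingCat.ofHom (algebraMap R K)) ≫ str)
  let g : TK ⟶ T := Over.homMk (Spec.map (CommRingCat.ofHom (algebraMap R K))) rfl
  haveI : Mono g.left := mono_genericMap (M := R⁰)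
  haveI : Flat g.left := by
    haveI : Module.Flat R K := IsLocalization.flat K R⁰
    exact (HasRingHomProperty.Spec_iff (P := @Flat)).2 (RingHom.flat_algebraMap_iff.2 ‹_›)
  haveI : IsAffineHom g.left := inferInstanceAs (IsAffineHom (Spec.map _))
  obtain ⟨U, p, hp, hps⟩ := hX.atlas
  obtain ⟨h, hh⟩ := (yon S).map_surjective (p ≫ f)
  have hsm : Smooth h.left := hf p (𝟙 _) h hp (repWith_id _ T) (by rw [Category.comp_id, hh])
  let UK : Over S := pullback h g
  let π : UK ⟶ U := pullback.fst h g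
  let hK : UK ⟶ TK := pullback.snd h g
  have sqO : IsPullback π hK h g := IsPullback.of_hasPullback h g
  have sqU := sqO.map (yon S)
  let φ : (yon S).obj UK ⟶ XK := hXK.lift ((yon S).map π ≫ p) ((yon S).map hK)
    (by rw [Category.assoc, ← hh]; exact sqU.w)
  have hφ1 : φ ≫ gK = (yon S).map π ≫ p := hXK.lift_fst _ _ _
  have hφ2 : φ ≫ fK = (yon S).map hK := hXK.lift_snd _ _ _
  have sqφ : IsPullback ((yon S).map π) φ p gK := by
    refine IsPullback.of_bot ?_ hφ1.symm hXK
    rw [hφ2, ← hh]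
    exact sqU
  have hφe : RepWith @Etale φ := repWith_of_isPullback sqφ hp
  have hφs : RepWith @Surjective φ := repWith_of_isPullback sqφ hps
  obtain ⟨J, hJ⟩ := exists_cutsOut hD.1 φ
  have hc := isEffCartierIdeal_of_cutsOut hD hφe hJ
  have sql : IsPullback π.left hK.left h.left g.left := sqO.map (Over.forget S)
  haveI : IsAffineHom π.left := MorphismProperty.of_isPullback sql.flip inferInstance
  haveI : Flat π.left := MorphismProperty.of_isPullback sql.flip inferInstance
  haveI : Mono π.left := MorphismProperty.of_isPullback (P := MorphismProperty.monomorphisms Scheme.{u})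
    sql.flip (MorphismProperty.monomorphisms.infer_property g.left)
  let I : U.left.IdealSheafData := (J.subschemeι ≫ π.left).ker
  have hIc : BlowUp.IsEffCartierIdeal I := isEffCartierIdeal_ker (V := R) (K := K) (h := h.left) sql hc
  have hIJ : I.comap π.left = J := by
    have sqm : IsPullback J.subschemeι (𝟙 _) π.left (J.subschemeι ≫ π.left) :=
      (IsPullback.of_horiz_isIso_mono (fst := 𝟙 _) (snd := J.subschemeι) (f := J.subschemeι ≫ π.left) (g := π.left)
        ⟨by rw [Category.id_comp]⟩).flip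
    exact (comap_ker_of_flat sqm).trans J.ker_subschemeι
  obtain ⟨R₂, s, t, hse, hte, sqR⟩ := exists_kernelPair hp
  have est : t ≫ h = s ≫ h := (yon S).map_injective (by
    rw [Functor.map_comp, Functor.map_comp, hh, ← Category.assoc, ← Category.assoc, sqR.w])
  let RK : Over S := pullback (t ≫ h) g
  let πR : RK ⟶ R₂ := pullback.fst (t ≫ h) g
  have hbc : ∀ (a : R₂ ⟶ U), a ≫ h = t ≫ h → Etale a.left → ∃ aK : RK ⟶ UK, aK ≫ π = πR ≫ a ∧
      aK ≫ hK = pullback.snd (t ≫ h) g ∧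
      I.comap a.left = ((J.comap aK.left).subschemeι ≫ πR.left).ker := by
    intro a ha hae
    let aK : RK ⟶ UK := pullback.lift (πR ≫ a) (pullback.snd (t ≫ h) g)
      (by rw [Category.assoc, ha]; exact pullback.condition)
    refine ⟨aK, pullback.lift_fst _ _ _, pullback.lift_snd _ _ _, ?_⟩
    have sqa : IsPullback aK πR π a := by
      refine (IsPullback.of_bot (h₁₁ := πR) (v₁₁ := aK) (v₁₂ := a) (h₂₁ := π) ?_ (pullback.lift_fst _ _ _).symm
        sqO).flip
      rw [pullback.lift_snd, ha]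
      exact IsPullback.of_hasPullback _ _
    have sqa' : IsPullback aK.left πR.left π.left a.left := sqa.map (Over.forget S)
    have sqJ : IsPullback (J.comap aK.left).subschemeι ((J.comapIso aK.left).hom ≫ pullback.snd _ _)
        aK.left J.subschemeι :=
      (IsPullback.of_hasPullback aK.left J.subschemeι).of_iso (J.comapIso aK.left).symm (Iso.refl _) (Iso.refl _)
        (Iso.refl _) (by simp) (by simp [-Scheme.IdealSheafData.comapIso_hom_snd]) (by simp) (by simp)
    exact comap_ker_of_flat (sqJ.paste_horiz sqa'.flip)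
  obtain ⟨tK, ht1, ht2, htI⟩ := hbc t rfl hte
  obtain ⟨sK, hs1, hs2, hsI⟩ := hbc s est.symm hse
  have ek : J.comap tK.left = J.comap sK.left := hJ.comap_eq hJ (hXK.hom_ext
    (by rw [Category.assoc, Category.assoc, hφ1, ← Category.assoc, ← Category.assoc, ← Functor.map_comp,
      ← Functor.map_comp, ht1, hs1, Functor.map_comp, Functor.map_comp, Category.assoc, Category.assoc, sqR.w])
    (by rw [Category.assoc, Category.assoc, hφ2, ← Functor.map_comp, ← Functor.map_comp, ht2, hs2]))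
  obtain ⟨D', i', hD'a, hi', hcut⟩ := exists_closedSub hX hp hps
    (invariant_of_kernelPair sqR (I := I) (by rw [htI, hsI, ek]))
  have hcart : IsEffCartierSub i' := isEffCartierSub_of_cutsOut hi' hp hps hcut hIc
  have sP := IsPullback.of_hasPullback i' gK
  have hPcut : CutsOut (pullback.snd i' gK) φ J := by
    refine cutsOut_of_isPullback sP ?_
    rw [hφ1, ← hIJ]
    exact hcut.comap π
  have hXKa : IsAlgSpace XK := isAlgSpace_of_isPullback (IsAlgSpace.yon_obj T).diag hX (IsAlgSpace.yon_obj TK) hXK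
  have hPc : RepWith @IsClosedImmersion (pullback.snd i' gK) := repWith_of_isPullback sP hi'
  have hPa : IsAlgSpace (pullback i' gK) := isAlgSpace_of_isPullback hX.diag hD'a hXKa sP
  obtain ⟨k₁, hk₁⟩ := (factor_iff_le hD' hφe hφs hPc hPcut hJ).2 le_rfl
  obtain ⟨k₂, hk₂⟩ := (factor_iff_le hPa hφe hφs hD.1 hJ hPcut).2 le_rfl
  haveI := mono_of_closedImmersion hPc
  haveI := mono_of_closedImmersion hD.1
  let e : pullback i' gK ≅ D := ⟨k₂, k₁,
    (cancel_mono (pullback.snd i' gK)).1 (by rw [Category.assoc, hk₁, hk₂, Category.id_comp]),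
    (cancel_mono i).1 (by rw [Category.assoc, hk₂, hk₁, Category.id_comp])⟩
  exact ⟨D', i', k₁ ≫ pullback.fst i' gK, hD'a, hcart, sP.of_iso e (Iso.refl _) (Iso.refl _) (Iso.refl _)
    (by rw [Iso.refl_hom, Category.comp_id, ← Category.assoc]
        exact ((congrArg (· ≫ pullback.fst i' gK) e.hom_inv_id).trans (Category.id_comp _)).symm)
    (by rw [Iso.refl_hom, Category.comp_id]; exact hk₂.symm)
    (by simp) (by simp)⟩

end Groth.Agent.H13Cartier.ValExtend
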