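import Groth.Agent.H12Pic.PicCurve.ValUnits
import Groth.Agent.H05EGA4.NormalAscent
import Groth.Agent.H05EGA4.Regular
import Groth.Agent.H7Flat.ValInjMod
import Groth.Agent.S0406

/-!
An ideal invertible on the generic fibre of a smooth algebra over a valuation ring has invertible
saturation.
-/

set_option autoImplicit false
set_option linter.style.haveILetI false
set_option linter.unusedSectionVars false

noncomputable section

universe u

open scoped TensorProduct nonZeroDivisors

namespace Groth.Agent.H13Cartier.ValExtendAlg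

open Groth.Agent.H12Pic.PicCurve Groth.Agent.H11Tilde

variable {V B C : Type u} [CommRing V] [IsDomain V] [ValuationRing V] [CommRing B] [Algebra V B]
  [Algebra.Smooth V B] [CommRing C] [Algebra B C] [IsLocalization (Algebra.algebraMapSubmonoid B V⁰) C]

/-- An ideal with torsion-free quotient is finitely generated. -/
theorem fg_of_saturated (I : Ideal B)
    (h : ∀ (v : V) (x : B), v ≠ 0 → algebraMap V B v * x ∈ I → x ∈ I) : I.FG := by
  haveI : Module.Flat V (B ⧸ I) := H02CA.PicValGeneric.flat_of_torsionFree fun v x hvx => by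
    by_cases hv : v = 0
    · exact Or.inl hv
    · obtain ⟨x, rfl⟩ := Ideal.Quotient.mk_surjective x
      refine Or.inr (Ideal.Quotient.eq_zero_iff_mem.2 (h v x hv ?_))
      rw [← Algebra.smul_def]
      exact Ideal.Quotient.eq_zero_iff_mem.1 hvx
  haveI : Algebra.FiniteType V (B ⧸ I) :=
    Algebra.FiniteType.of_surjective (Ideal.Quotient.mkₐ V I) Ideal.Quotient.mk_surjective
  haveI : Algebra.FinitePresentation V (B ⧸ I) := S0406.result
  have := Algebra.FinitePresentation.ker_fG_of_surjective (Ideal.Quotient.mkₐ V I) Ideal.Quotient.mk_surjective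
  rwa [show RingHom.ker (Ideal.Quotient.mkₐ V I).toRingHom = I from Ideal.mk_ker] at this

variable (V) in
include V in
theorem fg_comap (J : Ideal C) : (J.comap (algebraMap B C)).FG :=
  fg_of_saturated (V := V) _ fun v x hv hx => by
    rw [Ideal.mem_comap, map_mul] at hx
    have hu : IsUnit (algebraMap B C (algebraMap V B v)) :=
      IsLocalization.map_units C (⟨_, v, mem_nonZeroDivisors_of_ne_zero hv, rfl⟩ : Algebra.algebraMapSubmonoid B V⁰)
    exact (Ideal.unit_mul_mem_iff_mem J hu).1 hx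

variable (V) in
include V in
theorem exists_gen_near [IsNoetherianRing C] (J : Ideal C)
    (hJ : ∀ P : PrimeSpectrum C, ∃ (b : C) (m : J), b ∉ P.asIdeal ∧ GenOn b m) (q : Ideal B) [q.IsPrime] :
    ∃ t g : B, t ∉ q ∧ algebraMap B C g ∈ J ∧
      (∀ x, algebraMap B C x ∈ J → ∃ (n : ℕ) (a : B), t ^ n * x = a * g) ∧
      ∀ x, g * x = 0 → ∃ n : ℕ, t ^ n * x = 0 := by
  classical
  haveI : Module.Flat V B := inferInstance
  haveI : Algebra.EssFiniteType V B := inferInstance
  let p : Ideal V := q.comap (algebraMap V B)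
  let V' := Localization.AtPrime p
  let A := Localization.AtPrime q
  haveI : IsDomain V' := IsLocalization.isDomain_localization (Ideal.primeCompl_le_nonZeroDivisors p)
  haveI : ValuationRing V' := H3CAlg.ValPd.valuationRing_localization p
  let φ : V' →+* A := Localization.localRingHom p q (algebraMap V B) rfl
  letI : Algebra V' A := φ.toAlgebra
  haveI : IsLocalHom (algebraMap V' A) := Localization.isLocalHom_localRingHom p q (algebraMap V B) rfl
  haveI : IsScalarTower V V' A := IsScalarTower.of_algebraMap_eq fun v => by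
    show algebraMap V A v = φ (algebraMap V V' v)
    rw [Localization.localRingHom_to_map, ← IsScalarTower.algebraMap_apply]
  haveI : Algebra.EssFiniteType B A := Algebra.EssFiniteType.of_isLocalization A q.primeCompl
  haveI : Algebra.EssFiniteType V A := Algebra.EssFiniteType.comp V B A
  haveI : Algebra.EssFiniteType V' A := Algebra.EssFiniteType.of_comp V V' A
  haveI : Module.Flat V A := Module.Flat.trans V B A
  haveI : Module.Flat V' A := (Module.flat_iff_of_isLocalization V' p.primeCompl A).2 inferInstance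
  let mA := (IsLocalRing.maximalIdeal V').map (algebraMap V' A)
  have hmA : mA = p.map (algebraMap V A) := by
    simp only [mA]
    rw [← IsLocalization.AtPrime.map_eq_maximalIdeal p V', Ideal.map_map, ← IsScalarTower.algebraMap_eq]
  haveI hR : IsRegularLocalRing (A ⧸ mA) := by
    haveI h : IsRegularLocalRing (EGA4.FibLocRing V B q) := H05EGA4.isRegularLocalRing_fibLocRing_of_smooth V B q
    rw [hmA]
    exact h
  haveI := H4Depth.isDomain_of_isRegularLocalRing (A ⧸ mA)
  have hprime : mA.IsPrime := (Ideal.Quotient.isDomain_iff_prime _).1 inferInstance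
  haveI := H02CA.PicValGeneric.subsingleton_pic_localization (R := V') (A := A)
    (H05EGA4.isRegularRing_of_isRegularLocalRing (A ⧸ mA))
  let AK := Localization (Algebra.algebraMapSubmonoid A V'⁰)
  have hinjA : Function.Injective (algebraMap A AK) := ValUnits.injective_algebraMap V'
  have hV0 : ∀ v : V, v ≠ 0 → algebraMap V V' v ∈ V'⁰ := fun v hv => mem_nonZeroDivisors_of_ne_zero fun h =>
    hv (IsLocalization.injective V' p.primeCompl_le_nonZeroDivisors (h.trans (map_zero _).symm))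
  have hunitV : ∀ v : V, v ≠ 0 → IsUnit (algebraMap A AK (algebraMap B A (algebraMap V B v))) := fun v hv => by
    rw [← IsScalarTower.algebraMap_apply V B A, IsScalarTower.algebraMap_apply V V' A]
    exact IsLocalization.map_units AK
      (⟨_, _, hV0 v hv, rfl⟩ : Algebra.algebraMapSubmonoid A V'⁰)
  have hCu : ∀ y : Algebra.algebraMapSubmonoid B V⁰, IsUnit (((algebraMap A AK).comp (algebraMap B A)) y) := by
    rintro ⟨_, v, hv, rfl⟩
    exact hunitV v (nonZeroDivisors.ne_zero hv)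
  let ψ : C →+* AK := IsLocalization.lift hCu
  have hψ : ∀ x, ψ (algebraMap B C x) = algebraMap A AK (algebraMap B A x) := IsLocalization.lift_eq hCu
  have hψu : ∀ s : B, s ∉ q → IsUnit (ψ (algebraMap B C s)) := fun s hs => by
    rw [hψ]
    exact (IsLocalization.map_units A (⟨s, hs⟩ : q.primeCompl)).map _
  have hsurj : ∀ z : AK, ∃ s ∉ q, ∃ c : C, ψ (algebraMap B C s) * z = ψ c := fun z => by
    obtain ⟨⟨a, ⟨_, v', hv', rfl⟩⟩, e⟩ := IsLocalization.surj (Algebra.algebraMapSubmonoid A V'⁰) z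
    obtain ⟨⟨v, w⟩, ev⟩ := IsLocalization.surj p.primeCompl (S := V') v'
    obtain ⟨⟨b, t⟩, ea⟩ := IsLocalization.surj q.primeCompl a
    change v' * algebraMap V V' w = algebraMap V V' v at ev
    change a * algebraMap B A t = algebraMap B A b at ea
    change z * algebraMap A AK (algebraMap V' A v') = algebraMap A AK a at e
    have hv : v ≠ 0 := fun h => by
      rw [h, map_zero] at ev
      refine mul_ne_zero (nonZeroDivisors.ne_zero hv') (fun h' => w.2 ?_) ev
      rw [IsLocalization.injective V' p.primeCompl_le_nonZeroDivisors (h'.trans (map_zero _).symm)]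
      exact zero_mem p
    have hvC : IsUnit (algebraMap B C (algebraMap V B v)) :=
      IsLocalization.map_units C (⟨_, v, mem_nonZeroDivisors_of_ne_zero hv, rfl⟩ : Algebra.algebraMapSubmonoid B V⁰)
    refine ⟨(t : B), t.2, algebraMap B C (algebraMap V B w * b) * (hvC.unit⁻¹ : Cˣ).1,
      (hvC.map ψ).mul_left_cancel ?_⟩
    rw [← map_mul ψ _ (algebraMap B C _ * _), show algebraMap B C (algebraMap V B v) *
      (algebraMap B C (algebraMap V B w * b) * (hvC.unit⁻¹ : Cˣ).1) = algebraMap B C (algebraMap V B w * b) by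
        rw [mul_left_comm, IsUnit.mul_val_inv, mul_one], hψ, hψ, hψ, map_mul (algebraMap B A), ← ea,
      ← IsScalarTower.algebraMap_apply V B A, ← IsScalarTower.algebraMap_apply V B A,
      IsScalarTower.algebraMap_apply V V' A v, IsScalarTower.algebraMap_apply V V' A (w : V), ← ev]
    simp only [map_mul]
    linear_combination (algebraMap A AK (algebraMap V' A (algebraMap V V' w)) * algebraMap A AK (algebraMap B A t)) * e
  have hker : ∀ c : C, ψ c = 0 → ∃ s ∉ q, algebraMap B C s * c = 0 := fun c hc => by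
    obtain ⟨⟨b, y⟩, e⟩ := IsLocalization.surj (Algebra.algebraMapSubmonoid B V⁰) c
    change c * algebraMap B C y = algebraMap B C b at e
    have h1 : algebraMap B A b = algebraMap B A 0 := hinjA (by
      rw [← hψ, ← e, map_mul, hc, zero_mul, map_zero, map_zero])
    obtain ⟨⟨s, hs⟩, hsb⟩ := (IsLocalization.eq_iff_exists q.primeCompl A).1 h1
    refine ⟨s, hs, (IsLocalization.map_units C y).mul_left_eq_zero.mp ?_⟩
    rw [mul_assoc, e, ← map_mul]
    simpa using congrArg (algebraMap B C) hsb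
  let J' : Ideal AK := J.map ψ
  have hmem : ∀ z ∈ J', ∃ s ∉ q, ∃ c ∈ J, ψ (algebraMap B C s) * z = ψ c := fun z hz => by
    induction hz using Submodule.span_induction with
    | mem z hz => obtain ⟨c, hc, rfl⟩ := hz; exact ⟨1, q.ne_top_iff_one.1 (Ideal.IsPrime.ne_top ‹_›), c, hc, by simp⟩
    | zero => exact ⟨1, q.ne_top_iff_one.1 (Ideal.IsPrime.ne_top ‹_›), 0, J.zero_mem, by simp⟩
    | add x y _ _ hx hy =>
      obtain ⟨s, hs, c, hc, e⟩ := hx
      obtain ⟨s', hs', c', hc', e'⟩ := hy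
      refine ⟨s * s', fun h => (Ideal.IsPrime.mem_or_mem ‹_› h).elim hs hs',
        algebraMap B C s' * c + algebraMap B C s * c', J.add_mem (J.mul_mem_left _ hc) (J.mul_mem_left _ hc'), ?_⟩
      simp only [map_mul, map_add, ← e, ← e']; ring
    | smul a x _ hx =>
      obtain ⟨s, hs, c, hc, e⟩ := hx
      obtain ⟨s', hs', c', e'⟩ := hsurj a
      refine ⟨s * s', fun h => (Ideal.IsPrime.mem_or_mem ‹_› h).elim hs hs', c' * c, J.mul_mem_left _ hc, ?_⟩
      simp only [map_mul, ← e, ← e', smul_eq_mul]; ring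
  have hJ' : ∀ P : PrimeSpectrum AK, ∃ (b : AK) (m : J'), b ∉ P.asIdeal ∧ GenOn b m := fun P => by
    obtain ⟨b, m, hb, h1, h2⟩ := hJ ⟨P.asIdeal.comap ψ, inferInstance⟩
    refine ⟨ψ b, ⟨ψ m.1, Ideal.mem_map_of_mem ψ m.2⟩, hb, fun z => ?_, fun a ha => ?_⟩
    · obtain ⟨s, hs, c, hc, e⟩ := hmem z.1 z.2
      obtain ⟨j, a, hja⟩ := h1 ⟨c, hc⟩
      obtain ⟨u, hu⟩ := hψu s hs
      refine ⟨j, (↑u⁻¹ : AK) * ψ a, Subtype.ext ?_⟩
      show ψ b ^ j * z.1 = (↑u⁻¹ : AK) * ψ a * ψ m.1
      have hja' : ψ b ^ j * ψ c = ψ a * ψ m.1 := by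
        simpa using congrArg (fun x : J => ψ x.1) hja
      rw [mul_assoc, ← hja', ← e, ← hu, mul_left_comm (ψ b ^ j), ← mul_assoc, Units.inv_mul, one_mul]
    · obtain ⟨s, hs, c, e⟩ := hsurj a
      have h0 : ψ (c * m.1) = 0 := by
        rw [map_mul, ← e, mul_assoc, show a * ψ m.1 = 0 from congrArg Subtype.val ha, mul_zero]
      obtain ⟨s', hs', hc⟩ := hker _ h0
      obtain ⟨j, hj⟩ := h2 (algebraMap B C s' * c) (Subtype.ext (by
        show algebraMap B C s' * c * m.1 = 0
        rw [mul_assoc, hc]))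
      refine ⟨j, ((hψu s' hs').mul (hψu s hs)).mul_right_eq_zero.mp ?_⟩
      rw [show ψ (algebraMap B C s') * ψ (algebraMap B C s) * (ψ b ^ j * a) =
        ψ b ^ j * (ψ (algebraMap B C s') * (ψ (algebraMap B C s) * a)) by ring, e, ← map_mul, ← map_pow, ← map_mul,
        hj, map_zero]
  obtain ⟨_, _, _⟩ := ValUnits.finite_projective_invertible_of_genOn hJ'
  haveI : Module.Free AK J' := inferInstance
  obtain ⟨θ⟩ := Module.Invertible.free_iff_linearEquiv.1 (inferInstance : Module.Free AK J')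
  let j : J' := θ.symm 1
  have hjgen : ∀ z : J', z = θ z • j := fun z => θ.injective (by simp [j])
  have hjreg : ∀ c : AK, c * j.1 = 0 → c = 0 := fun c hc => by
    have h : c • j = 0 := Subtype.ext hc
    simpa [j] using congrArg θ h
  obtain ⟨⟨a, ⟨_, v', hv', rfl⟩⟩, ej⟩ := IsLocalization.surj (Algebra.algebraMapSubmonoid A V'⁰) j.1
  change j.1 * algebraMap A AK (algebraMap V' A v') = algebraMap A AK a at ej
  have hv'u : IsUnit (algebraMap A AK (algebraMap V' A v')) :=
    IsLocalization.map_units AK (⟨_, v', hv', rfl⟩ : Algebra.algebraMapSubmonoid A V'⁰)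
  have hne : a ≠ 0 := fun h => by
    rw [h, map_zero, hv'u.mul_left_eq_zero] at ej
    have h1 : (1 : AK) = 0 := hjreg 1 (by rw [ej, mul_zero])
    exact one_ne_zero (α := A) (hinjA (by rw [map_one, map_zero, h1]))
  obtain ⟨c₀, a₀, ea, hc₀, ha₀⟩ := ValUnits.exists_content (V := V') A a hne
  have hc₀u : IsUnit (algebraMap A AK (algebraMap V' A c₀)) :=
    IsLocalization.map_units AK (⟨_, c₀, mem_nonZeroDivisors_of_ne_zero hc₀, rfl⟩ : Algebra.algebraMapSubmonoid A V'⁰)
  obtain ⟨hinj₀, hflat₀⟩ := H7Flat.ValInjMod.injective_and_flat_coker (A := V') (B := A) (LinearMap.mulLeft A a₀)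
    (fun x hx => by
      rw [Ideal.smul_top_eq_map] at hx ⊢
      exact (hprime.mem_or_mem (show a₀ * x ∈ mA from hx)).resolve_left ha₀)
  have hJ'gen : ∀ z, z ∈ J' ↔ ∃ y, z = y * algebraMap A AK a₀ := by
    obtain ⟨u, hu⟩ := hv'u
    obtain ⟨u₀, hu₀⟩ := hc₀u
    have e : algebraMap A AK a₀ * (u₀ : AK) = j.1 * (u : AK) := by rw [hu, hu₀, ej, ea, map_mul]; ring
    intro z
    refine ⟨fun hz => ⟨θ ⟨z, hz⟩ * (↑u⁻¹ : AK) * (u₀ : AK), ?_⟩, ?_⟩
    · rw [mul_assoc, mul_comm (u₀ : AK), e, mul_assoc, mul_comm j.1, ← mul_assoc (↑u⁻¹ : AK), Units.inv_mul, one_mul]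
      exact congrArg Subtype.val (hjgen ⟨z, hz⟩)
    · rintro ⟨y, rfl⟩
      refine J'.mul_mem_left _ ?_
      rw [show algebraMap A AK a₀ = (↑u₀⁻¹ : AK) * ((u : AK) * j.1) by
        rw [mul_comm (u : AK), ← e, mul_left_comm, Units.inv_mul, mul_one]]
      exact J'.mul_mem_left _ (J'.mul_mem_left _ j.2)
  have hsat : ∀ x : A, algebraMap A AK x ∈ J' → ∃ y, x = y * a₀ := fun x hx => by
    obtain ⟨y, hy⟩ := (hJ'gen _).1 hx
    obtain ⟨⟨y₀, ⟨_, c, hc, rfl⟩⟩, ey⟩ := IsLocalization.surj (Algebra.algebraMapSubmonoid A V'⁰) y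
    change y * algebraMap A AK (algebraMap V' A c) = algebraMap A AK y₀ at ey
    have h1 : algebraMap V' A c * x = a₀ * y₀ := hinjA (by rw [map_mul, map_mul, hy, ← ey]; ring)
    have h2 : c • Submodule.Quotient.mk (p := LinearMap.range (LinearMap.mulLeft A a₀)) x = 0 := by
      rw [← Submodule.Quotient.mk_smul, Submodule.Quotient.mk_eq_zero, Algebra.smul_def]
      exact ⟨y₀, h1.symm⟩
    obtain ⟨w, hw⟩ := (Submodule.Quotient.mk_eq_zero _).1
      ((Module.Flat.isSMulRegular_of_nonZeroDivisors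
        (M := A ⧸ LinearMap.range (LinearMap.mulLeft A a₀)) hc).right_eq_zero_of_smul h2)
    exact ⟨w, hw.symm.trans (mul_comm _ _)⟩
  obtain ⟨⟨g₁, t₁⟩, eg⟩ := IsLocalization.surj q.primeCompl a₀
  change a₀ * algebraMap B A t₁ = algebraMap B A g₁ at eg
  have hg₁ : algebraMap A AK (algebraMap B A g₁) ∈ J' :=
    (hJ'gen _).2 ⟨algebraMap A AK (algebraMap B A t₁), by rw [← eg, map_mul, mul_comm]⟩
  obtain ⟨s₁, hs₁, c₁, hc₁, e₁⟩ := hmem _ hg₁
  obtain ⟨s₂, hs₂, e₂⟩ := hker (algebraMap B C (s₁ * g₁) - c₁) (by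
    rw [map_sub, sub_eq_zero, map_mul, map_mul, ← e₁, hψ g₁])
  let g := s₂ * (s₁ * g₁)
  have hgJ : algebraMap B C g ∈ J := by
    rw [mul_sub, sub_eq_zero] at e₂
    rw [map_mul, e₂]
    exact J.mul_mem_left _ hc₁
  obtain ⟨w, hw⟩ : IsUnit (algebraMap B A (s₂ * (s₁ * t₁))) :=
    IsLocalization.map_units A (⟨_, mul_mem (show s₂ ∈ q.primeCompl from hs₂) (mul_mem hs₁ t₁.2)⟩ : q.primeCompl)
  have hga : algebraMap B A g = (w : A) * a₀ := by
    rw [hw, map_mul, map_mul, ← eg, map_mul, map_mul]; ring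
  have hgen : ∀ x : B, algebraMap B C x ∈ J → ∃ s ∉ q, ∃ a, s * x = a * g := fun x hx => by
    obtain ⟨y, hy⟩ := hsat (algebraMap B A x) (by rw [← hψ]; exact Ideal.mem_map_of_mem ψ hx)
    obtain ⟨⟨y₁, r⟩, er⟩ := IsLocalization.surj q.primeCompl (y * (↑w⁻¹ : A))
    change y * (↑w⁻¹ : A) * algebraMap B A r = algebraMap B A y₁ at er
    have : algebraMap B A ((r : B) * x) = algebraMap B A (y₁ * g) := by
      rw [map_mul, map_mul, hy, hga, ← er,
        show y * (↑w⁻¹ : A) * algebraMap B A r * ((w : A) * a₀) = ((w : A) * ↑w⁻¹) * (algebraMap B A r * (y * a₀)) by ring,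
        Units.mul_inv, one_mul]
    obtain ⟨⟨s, hs⟩, hseq⟩ := (IsLocalization.eq_iff_exists q.primeCompl A).1 this
    exact ⟨s * r, fun h => (Ideal.IsPrime.mem_or_mem ‹_› h).elim hs r.2, s * y₁, by
      change s * ((r : B) * x) = s * (y₁ * g) at hseq
      rw [mul_assoc, hseq, mul_assoc]⟩
  have hnzd : ∀ x : B, g * x = 0 → ∃ s ∉ q, s * x = 0 := fun x hx => by
    have h1 : algebraMap B A x = algebraMap B A 0 := by
      rw [map_zero]
      refine hinj₀ ?_
      rw [map_zero, LinearMap.mulLeft_apply]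
      have := congrArg (algebraMap B A) hx
      rwa [map_mul, hga, map_zero, mul_assoc, w.mul_right_eq_zero] at this
    obtain ⟨⟨s, hs⟩, hseq⟩ := (IsLocalization.eq_iff_exists q.primeCompl A).1 h1
    exact ⟨s, hs, by simpa using hseq⟩
  let N : Ideal B := LinearMap.ker (LinearMap.mulLeft B g)
  obtain ⟨G, hG⟩ := fg_comap (B := B) V J
  obtain ⟨G', hG'⟩ := fg_of_saturated (V := V) N fun v x hv hx => by
    rw [LinearMap.mem_ker, LinearMap.mulLeft_apply] at hx ⊢
    refine Module.Flat.isSMulRegular_of_nonZeroDivisors (M := B) (mem_nonZeroDivisors_of_ne_zero hv) ?_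
    show v • (g * x) = v • (0 : B)
    rw [smul_zero, Algebra.smul_def, ← hx]; ring
  have hgen' : ∀ x : G, ∃ s ∉ q, ∃ a, s * x.1 = a * g := fun x => hgen _ (hG.le (Ideal.subset_span x.2))
  have hnzd' : ∀ x : G', ∃ s ∉ q, s * x.1 = 0 := fun x => hnzd _ (hG'.le (Ideal.subset_span x.2))
  choose s hs a hsa using hgen'
  choose s' hs' hsa' using hnzd'
  let t := (∏ x, s x) * ∏ x, s' x
  refine ⟨t, g, fun h => ?_, hgJ, fun x hx => ?_, fun x hx => ?_⟩
  · rcases Ideal.IsPrime.mem_or_mem ‹_› h with h | h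
    · obtain ⟨x, -, hx⟩ := (Ideal.IsPrime.prod_mem_iff (p := q)).1 h; exact hs x hx
    · obtain ⟨x, -, hx⟩ := (Ideal.IsPrime.prod_mem_iff (p := q)).1 h; exact hs' x hx
  · have hle : Ideal.span (G : Set B) ≤ Submodule.comap (LinearMap.mulLeft B t) (Ideal.span {g}) :=
      Ideal.span_le.2 fun y hy => by
        obtain ⟨k, hk⟩ : s ⟨y, hy⟩ ∣ t := (Finset.dvd_prod_of_mem s (Finset.mem_univ _)).trans (dvd_mul_right _ _)
        refine Ideal.mem_span_singleton'.2 ⟨k * a ⟨y, hy⟩, ?_⟩
        rw [LinearMap.mulLeft_apply, hk, mul_assoc, ← hsa]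
        ring
    obtain ⟨b, hb⟩ := Ideal.mem_span_singleton'.1 (hle (hG.ge hx))
    exact ⟨1, b, by rw [pow_one]; exact hb.symm⟩
  · have hle : Ideal.span (G' : Set B) ≤ LinearMap.ker (LinearMap.mulLeft B t) := Ideal.span_le.2 fun y hy => by
      obtain ⟨k, hk⟩ : s' ⟨y, hy⟩ ∣ t := (Finset.dvd_prod_of_mem s' (Finset.mem_univ _)).trans (dvd_mul_left _ _)
      rw [SetLike.mem_coe, LinearMap.mem_ker, LinearMap.mulLeft_apply, hk, mul_right_comm, hsa', zero_mul]
    exact ⟨1, by rw [pow_one]; exact hle (hG'.ge hx)⟩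

end Groth.Agent.H13Cartier.ValExtendAlg
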