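import Groth.Agent.H13Cartier.Criteria
import Groth.Prelude.Def_AlgSpModX

/-!
# Inverse images of effective Cartier divisors avoiding weakly associated points
-/

universe u

open CategoryTheory CategoryTheory.Limits AlgebraicGeometry Opposite
open AlgSp Groth.Agent.H12AlgSp Groth.Agent.H13AlgSp

namespace Groth.Agent.H13Cartier

variable {S : Scheme.{u}}

/-- A zero divisor on an affine chart vanishes at some weakly associated point. -/
theorem exists_weakAss_of_mul_eq_zero {X : Sp S} (E : EtOver X) [hE : IsAffine E.obj.left.left]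
    {b z : Γ(E.obj.left.left, ⊤)} (hz : z ≠ 0) (hzb : z * b = 0) :
    ∃ u : E.obj.left.left, Points.ofPt E.obj.hom u ∈ WeakAssEt (unitModEt X) ∧
      u ∉ E.obj.left.left.basicOpen b := by
  let s : sectModEt (unitModEt X) E := upΓ E z
  have hs : ∀ a, a ∈ annSect s ↔ a * z = 0 := fun a => by
    rw [mem_annSect_iff]
    change upΓ E a * upΓ E z = 0 ↔ _
    rw [← map_mul]
    exact ⟨fun h => congrArg ULift.down h, fun h => by rw [h, map_zero]⟩
  have hne : annSect s ≠ ⊤ := fun h => hz (by simpa using (hs 1).1 (h ▸ trivial))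
  obtain ⟨m, hm, hle⟩ := Ideal.exists_le_maximal _ hne
  obtain ⟨q, hq, -⟩ := Ideal.exists_minimalPrimes_le hle
  have hqp : q.IsPrime := hq.1.1
  let hT := isAffineOpen_top E.obj.left.left
  let u : E.obj.left.left := hT.fromSpec ⟨q, hqp⟩
  have hu : hT.primeIdealOf ⟨u, trivial⟩ = ⟨q, hqp⟩ := by
    have := hT.isOpenImmersion_fromSpec
    exact hT.fromSpec.isOpenEmbedding.injective (hT.fromSpec_primeIdealOf _)
  have hpt : primeAtPt E.obj.left.left u = q := by
    rw [show q = (hT.primeIdealOf ⟨u, trivial⟩).asIdeal from (congrArg PrimeSpectrum.asIdeal hu).symm,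
      hT.primeIdealOf_eq_map_closedPoint]
    rfl
  refine ⟨u, ⟨E, hE, u, rfl, s, hpt.symm ▸ hq⟩, fun h => ?_⟩
  have h2 : (⟨q, hqp⟩ : PrimeSpectrum _) ∈ hT.fromSpec ⁻¹ᵁ E.obj.left.left.basicOpen b := h
  rw [hT.fromSpec_preimage_basicOpen] at h2
  exact h2 (hq.1.2 ((hs b).2 (by rw [mul_comm]; exact hzb)))

theorem isEffCartierSub_pullback_weakAss {X Y D P : Sp S} (hX : IsAlgSpace X) (hY : IsAlgSpace Y) {f : X ⟶ Y}
    {i : D ⟶ Y} (hD : IsEffCartierSub i)
    (h : ∀ x ∈ WeakAssEt (unitModEt X), Points.map f x ∉ Set.range (Points.map i))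
    {fst : P ⟶ D} {snd : P ⟶ X} (hP : IsPullback fst snd i f) : IsEffCartierSub snd := by
  obtain ⟨hi, V, φ, J, l, hφ, hφs, sq, hJ⟩ := hD
  obtain ⟨T, t, k, hte, hts, e⟩ := exists_chart_over hX hY f hφ hφs
  have hc : CutsOut i φ J := ⟨l, sq⟩
  have hcT : CutsOut snd t (J.comap k.left) := cutsOut_of_isPullback hP (e.symm ▸ hc.comap k)
  refine isEffCartierSub_of_cutsOut (repWith_of_isPullback hP hi) hte hts hcT fun τ => ?_
  obtain ⟨V', hτV, a, ha, haV⟩ := hJ (k.left τ)
  obtain ⟨T', hT', hτT, hTV⟩ := exists_isAffineOpen_mem_and_subset (U := k.left ⁻¹ᵁ V'.1) (x := τ) hτV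
  have hUa : IsAffine (openOver T T').left := hT'
  have hte' : RepWith @Etale ((yon S).map (openIncl T T') ≫ t) :=
    repWith_comp ((repWith_yon_map_iff _ _).2 (inferInstanceAs (Etale T'.ι))) hte
  let k' := openIncl T T' ≫ k
  have hle : (⊤ : (openOver T T').left.Opens) ≤ k'.left ⁻¹ᵁ V'.1 := fun y _ => hTV y.2
  have hgen : (J.comap k'.left).ideal ⟨⊤, isAffineOpen_top _⟩ =
      Ideal.span {(k'.left.appLE V'.1 ⊤ hle).hom a} := by
    rw [H29Blow.ideal_comap J k'.left V' ⟨⊤, isAffineOpen_top _⟩ hle, haV, Ideal.map_span, Set.image_singleton]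
  have hcT' : CutsOut snd ((yon S).map (openIncl T T') ≫ t) (J.comap k'.left) := by
    refine cutsOut_of_isPullback hP ?_
    rw [Category.assoc, e, ← Functor.map_comp_assoc]
    exact hc.comap k'
  refine hcT.genNear hcT' hte hte' τ ⟨τ, hτT⟩ (by rw [ofPt_map]; rfl)
    ⟨⟨⊤, isAffineOpen_top _⟩, trivial, _, mem_nonZeroDivisors_iff_right.mpr fun z hz => ?_, hgen⟩
  by_contra hz0
  obtain ⟨u, hu, hub⟩ := exists_weakAss_of_mul_eq_zero (EtOver.mk _ hte') (hE := hUa) (b := (k'.left.appLE V'.1 ⊤ hle).hom a) hz0 hz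
  apply h _ hu
  have h1 : u ∈ (J.comap k'.left).support := by
    refine (Scheme.IdealSheafData.mem_support_iff_of_mem (U := ⟨⊤, isAffineOpen_top _⟩) trivial).mpr ?_
    rw [hgen, Scheme.zeroLocus_span, Scheme.zeroLocus_singleton]
    exact hub
  rw [Scheme.IdealSheafData.support_comap] at h1
  have h2 : k'.left u ∈ Set.range J.subschemeι := J.range_subschemeι.symm ▸ h1
  have h3 : Points.map f (Points.ofPt ((yon S).map (openIncl T T') ≫ t) u) = Points.ofPt φ (k'.left u) := by
    rw [Points.map_ofPt, Category.assoc, e, ← Functor.map_comp_assoc]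
    exact ofPt_map k' φ u
  change Points.map f (Points.ofPt ((yon S).map (openIncl T T') ≫ t) u) ∈ _
  rw [h3]
  exact (Set.ext_iff.mp (preimage_ofPt_range sq) (k'.left u)).mpr h2

end Groth.Agent.H13Cartier
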